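import Cfsg.Agent.Lib.Perm.TransLinTwo.Hex.Lines
import Cfsg.Agent.Lib.Perm.TransLinTwo.YKill

/-!
# Blocks: the stable balls inside the neighbourhoods

When all balls round a point lie in its neighbourhood, the stable balls (blocks) form a spread, the
classes behave like the points of a projective space, and a block is not a plane.
-/

set_option autoImplicit false
set_option linter.unusedSectionVars false
set_option linter.unusedVariables false
set_option linter.style.haveILetI false

namespace Cfsg.Agent.TransLinTwo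

open Module

namespace AF

variable {G X Y : Type*} [Group G] [Finite G] [AddCommGroup X] [Module (ZMod 2) X] [Finite X]
  [AddCommGroup Y] [Module (ZMod 2) Y] [Finite Y] (A : AF G X Y)

/-- The block of a point: its largest ball. -/
noncomputable def block (x : X) : Submodule (ZMod 2) X := A.ball (finrank (ZMod 2) X) x

/-- The radical of a block. -/
noncomputable def blockZ (x : X) : Submodule (ZMod 2) X := A.swap.perp (A.dn (A.block x))

/-- A subspace that is a union of classes. -/
def ClassClosed (U : Submodule (ZMod 2) X) : Prop := ∀ z ∈ U, A.T z ≤ U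

theorem T_zero : A.T (0 : X) = ⊥ := by
  refine (Submodule.eq_bot_iff _).2 fun u hu => ?_
  rcases hu with h | ⟨h, -⟩
  · exact h
  · exact absurd rfl h

theorem self_mem_T' (z : X) : z ∈ A.T z := by
  rcases eq_or_ne z 0 with rfl | hz
  · exact zero_mem _
  · exact A.self_mem_T hz

include A in
theorem finrank_dual_eq : finrank (ZMod 2) Y = finrank (ZMod 2) X := by
  rw [LinearEquiv.finrank_eq (LinearEquiv.ofBijective A.b.flip A.flip_bijective),
    Subspace.dual_finrank_eq]

theorem self_mem_block {x : X} (hx : x ≠ 0) : x ∈ A.block x := A.self_mem_ball _ hx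

theorem finrank_block_eq {x x' : X} (hx : x ≠ 0) (hx' : x' ≠ 0) :
    finrank (ZMod 2) (A.block x) = finrank (ZMod 2) (A.block x') := A.finrank_ball_eq _ hx hx'

theorem exists_stable (U : Submodule (ZMod 2) X) :
    ∃ i ≤ finrank (ZMod 2) X, A.hop (A.hop^[i] U) = A.hop^[i] U := by
  by_contra hcon
  push Not at hcon
  have hgrow : ∀ i, i ≤ finrank (ZMod 2) X + 1 → i ≤ finrank (ZMod 2) ↥(A.hop^[i] U) := by
    intro i
    induction i with
    | zero => exact fun _ => Nat.zero_le _
    | succ i ih =>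
      intro hi
      rw [Function.iterate_succ_apply']
      have h1 := Submodule.finrank_lt_finrank_of_lt
        (lt_of_le_of_ne (A.le_hop (A.hop^[i] U)) (Ne.symm (hcon i (by omega))))
      have h2 := ih (by omega)
      omega
  have h1 := hgrow (finrank (ZMod 2) X + 1) le_rfl
  have h2 := Submodule.finrank_le (A.hop^[finrank (ZMod 2) X + 1] U)
  omega

theorem hop_iter_top (U : Submodule (ZMod 2) X) :
    A.hop (A.hop^[finrank (ZMod 2) X] U) = A.hop^[finrank (ZMod 2) X] U := by
  obtain ⟨i, hi, he⟩ := A.exists_stable U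
  have key : ∀ j, A.hop^[i + j] U = A.hop^[i] U := by
    intro j
    induction j with
    | zero => rfl
    | succ j ih => rw [← add_assoc, Function.iterate_succ_apply', ih, he]
  obtain ⟨j, hj⟩ : ∃ j, finrank (ZMod 2) X = i + j := ⟨finrank (ZMod 2) X - i, by omega⟩
  rw [hj, key, he]

theorem hop_block (x : X) : A.hop (A.block x) = A.block x := A.hop_iter_top _

theorem ball_le_block (i : ℕ) (x : X) : A.ball i x ≤ A.block x := by
  rcases le_total i (finrank (ZMod 2) X) with h | h
  · exact A.ball_mono h x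
  · obtain ⟨j, rfl⟩ : ∃ j, i = j + finrank (ZMod 2) X := ⟨i - finrank (ZMod 2) X, by omega⟩
    refine le_of_eq ?_
    rw [ball, Function.iterate_add_apply]
    exact Function.iterate_fixed (A.hop_iter_top _) j

theorem T_le_block {x u : X} (hu : u ∈ A.block x) : A.T u ≤ A.block x := by
  rcases eq_or_ne u 0 with rfl | hu0
  · rw [A.T_zero]; exact bot_le
  obtain ⟨y, hy, hyu⟩ := A.exists_flag hu0
  refine (A.T_le_R hu0 hy hyu).trans ?_
  rw [← A.hop_block x]
  exact A.R_le_up (A.E_le_dn hu hyu)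

theorem block_eq {x u : X} (hx : x ≠ 0) (hu0 : u ≠ 0) (hu : u ∈ A.block x) :
    A.block u = A.block x := by
  refine Submodule.eq_of_le_of_finrank_eq ?_ (A.finrank_block_eq hu0 hx)
  calc A.block u ≤ A.hop^[finrank (ZMod 2) X] (A.block x) :=
        A.hop_mono_iter _ (A.T_le_block hu)
    _ = A.block x := Function.iterate_fixed (A.hop_block x) _

theorem le_iSup_T (U : Submodule (ZMod 2) X) : U ≤ ⨆ v : U, A.T v.1 := fun v hv =>
  Submodule.mem_iSup_of_mem (⟨v, hv⟩ : U) (A.self_mem_T' v)

theorem classClosed_R (y : Y) : A.ClassClosed (A.R y) := by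
  intro z hz
  rcases eq_or_ne z 0 with rfl | hz0
  · rw [A.T_zero]; exact bot_le
  rcases eq_or_ne y 0 with rfl | hy
  · rw [show A.R (0 : Y) = ⊥ from A.swap.E_zero, Submodule.mem_bot] at hz
    exact absurd hz hz0
  · exact A.T_le_R hz0 hy ((A.mem_R_iff_mem_E hz0 hy).1 hz)

variable {h : ℕ} (H : A.TwoStep h) (hin : ∀ x : X, x ≠ 0 → ∀ i, A.ball i x ≤ A.S x)

include hin in
theorem block_le_S {x u : X} (hx : x ≠ 0) (hu0 : u ≠ 0) (hu : u ∈ A.block x) :
    A.block x ≤ A.S u := by
  rw [← A.block_eq hx hu0 hu]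
  exact hin u hu0 _

theorem mem_dn_block {x : X} {φ : Y} (hφ : φ ≠ 0) :
    φ ∈ A.dn (A.block x) ↔ A.R φ ≤ A.block x := by
  constructor
  · intro h1
    rw [← A.hop_block x]
    exact A.R_le_up h1
  · intro h1
    obtain ⟨u, hu⟩ := A.swap.exists_I hφ
    exact A.E_le_dn (h1 ((A.mem_R_iff hφ).2 (Or.inr (A.swap_I.1 hu))))
      ((A.mem_E_iff hu.2.1).2 (Or.inr (A.swap_I.1 hu)))

theorem mem_blockZ {x z : X} :
    z ∈ A.blockZ x ↔ ∀ u ∈ A.block x, u ≠ 0 → z ∈ A.S u := by
  constructor
  · intro hz u hu hu0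
    exact A.mem_of_perp fun y hy => hz y (A.E_le_dn hu hy)
  · intro hz
    have hle : A.dn (A.block x) ≤ A.perp (Submodule.span (ZMod 2) {z}) := by
      refine A.dn_le_iff.2 fun u hu y hy v hv => ?_
      obtain ⟨r, rfl⟩ := Submodule.mem_span_singleton.1 hv
      rcases eq_or_ne u 0 with rfl | hu0
      · rw [A.E_zero, Submodule.mem_bot] at hy
        simp [hy]
      · rw [map_smul, LinearMap.smul_apply, hy z (hz u hu hu0), smul_zero]
    intro y hy
    exact hle hy z (Submodule.mem_span_singleton_self z)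

include hin in
theorem block_le_blockZ {x : X} (hx : x ≠ 0) : A.block x ≤ A.blockZ x :=
  fun v hv => A.mem_blockZ.2 fun u hu hu0 => A.block_le_S hin hx hu0 hu hv

include H

theorem finrank_dn_block {x : X} (hx : x ≠ 0) :
    finrank (ZMod 2) (A.dn (A.block x)) = finrank (ZMod 2) (A.block x) := by
  classical
  haveI : Fintype X := Fintype.ofFinite X
  haveI : Fintype Y := Fintype.ofFinite Y
  let Pf : Finset X := (Finset.univ.filter fun u => u ∈ A.block x).erase 0
  let Ff : Finset Y := (Finset.univ.filter fun y => y ∈ A.dn (A.block x)).erase 0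
  have hc := Finset.sum_card_bipartiteAbove_eq_sum_card_bipartiteBelow (s := Pf) (t := Ff)
    (fun u y => y ∈ A.E u)
  have h1 : ∀ u ∈ Pf, (Ff.bipartiteAbove (fun u y => y ∈ A.E u) u).card = 2 ^ (2 * h) - 1 := by
    intro u hu
    simp only [Pf, Finset.mem_erase, Finset.mem_filter, Finset.mem_univ, true_and] at hu
    have hs : Ff.bipartiteAbove (fun u y => y ∈ A.E u) u =
        (Finset.univ.filter fun y => y ∈ A.E u).erase 0 := by
      ext y
      simp only [Ff, Finset.mem_bipartiteAbove, Finset.mem_erase, Finset.mem_filter,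
        Finset.mem_univ, true_and]
      exact ⟨fun hy => ⟨hy.1.1, hy.2⟩, fun hy => ⟨⟨hy.1, A.E_le_dn hu.2 hy.2⟩, hy.2⟩⟩
    rw [hs, Finset.card_erase_of_mem (by simp), card_filter_mem, H.rankE u hu.1]
  have h3 : ∀ y ∈ Ff, (Pf.bipartiteBelow (fun u y => y ∈ A.E u) y).card = 2 ^ (2 * h) - 1 := by
    intro y hy
    simp only [Ff, Finset.mem_erase, Finset.mem_filter, Finset.mem_univ, true_and] at hy
    have hs : Pf.bipartiteBelow (fun u y => y ∈ A.E u) y =
        (Finset.univ.filter fun v => v ∈ A.R y).erase 0 := by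
      ext v
      simp only [Pf, Finset.mem_bipartiteBelow, Finset.mem_erase, Finset.mem_filter,
        Finset.mem_univ, true_and]
      exact ⟨fun hv => ⟨hv.1.1, (A.mem_R_iff_mem_E hv.1.1 hy.1).2 hv.2⟩,
        fun hv => ⟨⟨hv.1, (A.mem_dn_block hy.1).1 hy.2 hv.2⟩, (A.mem_R_iff_mem_E hv.1 hy.1).1 hv.2⟩⟩
    rw [hs, Finset.card_erase_of_mem (by simp), card_filter_mem, A.finrank_R H hy.1]
  rw [Finset.sum_congr rfl h1, Finset.sum_congr rfl h3, Finset.sum_const, Finset.sum_const,
    smul_eq_mul, smul_eq_mul, Finset.card_erase_of_mem (by simp), card_filter_mem,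
    Finset.card_erase_of_mem (by simp), card_filter_mem] at hc
  have hpos := H.pos
  have h5 := Nat.eq_of_mul_eq_mul_right (by
    have := Nat.one_lt_two_pow (show 2 * h ≠ 0 by omega)
    omega) hc
  have h6 := Nat.one_le_two_pow (n := finrank (ZMod 2) (A.dn (A.block x)))
  have h7 := Nat.one_le_two_pow (n := finrank (ZMod 2) (A.block x))
  exact Nat.pow_right_injective le_rfl (show 2 ^ finrank (ZMod 2) (A.dn (A.block x)) =
    2 ^ finrank (ZMod 2) (A.block x) by omega)

theorem finrank_blockZ {x : X} (hx : x ≠ 0) :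
    finrank (ZMod 2) (A.blockZ x) + finrank (ZMod 2) (A.block x) = finrank (ZMod 2) X := by
  have h1 := A.swap.finrank_add_perp (A.dn (A.block x))
  rw [A.finrank_dn_block H hx, A.finrank_dual_eq] at h1
  rw [blockZ]
  omega

theorem two_mul_le_finrank_block {x : X} (hx : x ≠ 0) : 2 * h ≤ finrank (ZMod 2) (A.block x) := by
  obtain ⟨y, hy, hyx⟩ := A.exists_flag hx
  have h1 := Submodule.finrank_mono ((A.R_le_ball_one hx hyx).trans (A.ball_le_block 1 x))
  rwa [A.finrank_R H hy] at h1

theorem blockZ_ne_top {x : X} (hx : x ≠ 0) : A.blockZ x ≠ ⊤ := by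
  intro he
  have h1 := A.finrank_blockZ H hx
  rw [he, finrank_top] at h1
  have h2 := A.two_mul_le_finrank_block H hx
  have := H.pos
  omega

theorem blockZ_eq {x u : X} (hx : x ≠ 0) (hu0 : u ≠ 0) (hu : u ∈ A.block x) :
    A.blockZ u = A.blockZ x := by
  rw [blockZ, blockZ, A.block_eq hx hu0 hu]

include hin

theorem block_le_blockZ_of_mem {a w : X} (ha : a ≠ 0) (hw0 : w ≠ 0) (hw : w ∈ A.blockZ a) :
    A.block w ≤ A.blockZ a := by
  have key : ∀ v, v ≠ 0 → v ∈ A.blockZ a → A.ball 1 v ≤ A.blockZ a := by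
    intro v hv0 hv
    intro p hp
    refine A.mem_blockZ.2 fun u hu hu0 => ?_
    refine (A.R_le_S_symm hu0 hv0 fun q hq => ?_) hp
    rcases eq_or_ne q 0 with rfl | hq0
    · exact zero_mem _
    refine A.S_symm hq0 (A.mem_blockZ.1 hv q ?_ hq0)
    rw [← A.block_eq ha hu0 hu]
    exact A.ball_le_block 1 u hq
  have hstab : A.hop (A.blockZ a) ≤ A.blockZ a := by
    refine (A.hop_mono (A.le_iSup_T _)).trans ?_
    rw [A.hop_iSup]
    refine iSup_le fun v => ?_
    rcases eq_or_ne (v : X) 0 with hv | hv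
    · rw [hv, A.T_zero, hop, dn, ← le_bot_iff.1 (le_refl (⊥ : Submodule (ZMod 2) X))]
      refine A.up_le_iff.2 fun y hy => ?_
      have : y = 0 := by
        have h0 : A.dn (⊥ : Submodule (ZMod 2) X) ≤ ⊥ := A.dn_le_iff.2 fun z hz => by
          rw [Submodule.mem_bot] at hz
          rw [hz, A.E_zero]
        exact (Submodule.mem_bot _).1 (h0 hy)
      rw [this, show A.R (0 : Y) = ⊥ from A.swap.E_zero]
      exact bot_le
    · exact key v hv v.2
  have hT : A.T w ≤ A.hop (A.blockZ a) := by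
    obtain ⟨y, hy, hyw⟩ := A.exists_flag hw0
    exact (A.T_le_R hw0 hy hyw).trans (A.R_le_up (A.E_le_dn hw hyw))
  have hiter : ∀ n, A.hop^[n] (A.T w) ≤ A.blockZ a := by
    intro n
    induction n with
    | zero => exact hT.trans hstab
    | succ n ih => rw [Function.iterate_succ_apply']; exact (A.hop_mono ih).trans hstab
  exact hiter _

theorem block_dichotomy {a b : X} (ha : a ≠ 0) (hb : b ≠ 0) :
    A.block b ≤ A.blockZ a ∨ Disjoint (A.block b) (A.blockZ a) := by
  by_cases hd : Disjoint (A.block b) (A.blockZ a)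
  · exact Or.inr hd
  obtain ⟨z, hz, hz0⟩ := Submodule.exists_mem_ne_zero_of_ne_bot
    (fun e => hd (disjoint_iff.2 e) : A.block b ⊓ A.blockZ a ≠ ⊥)
  refine Or.inl ?_
  rw [← A.block_eq hb hz0 hz.1]
  exact A.block_le_blockZ_of_mem H hin ha hz0 hz.2

theorem block_sup_blockZ {a b : X} (ha : a ≠ 0) (hb : b ≠ 0)
    (hd : Disjoint (A.block b) (A.blockZ a)) : A.block b ⊔ A.blockZ a = ⊤ := by
  apply Submodule.eq_top_of_finrank_eq
  have h1 := Submodule.finrank_sup_add_finrank_inf_eq (A.block b) (A.blockZ a)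
  rw [disjoint_iff.1 hd, finrank_bot, A.finrank_block_eq hb ha] at h1
  have := A.finrank_blockZ H ha
  omega

theorem block_perp_symm {a b : X} (ha : a ≠ 0) (hb : b ≠ 0) (hp : A.block b ≤ A.blockZ a) :
    A.block a ≤ A.blockZ b := fun u hu => A.mem_blockZ.2 fun v hv hv0 => by
  rcases eq_or_ne u 0 with rfl | hu0
  · exact zero_mem _
  · exact A.S_symm hu0 (A.mem_blockZ.1 (hp hv) u hu hu0)

theorem disjoint_symm {a b : X} (ha : a ≠ 0) (hb : b ≠ 0)
    (hd : Disjoint (A.block b) (A.blockZ a)) : Disjoint (A.block a) (A.blockZ b) :=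
  (A.block_dichotomy H hin hb ha).resolve_left fun hle => hb (Submodule.disjoint_def.1 hd b
    (A.self_mem_block hb) (A.block_perp_symm H hin hb ha hle (A.self_mem_block hb)))

theorem disjoint_of_not_mem {a b : X} (ha : a ≠ 0) (hb : b ∉ A.blockZ a) :
    Disjoint (A.block b) (A.blockZ a) := by
  have hb0 : b ≠ 0 := fun e => hb (e ▸ zero_mem _)
  exact (A.block_dichotomy H hin ha hb0).resolve_left fun hle => hb (hle (A.self_mem_block hb0))

theorem exists_nonperp {a : X} (ha : a ≠ 0) :
    ∃ b, b ≠ 0 ∧ Disjoint (A.block b) (A.blockZ a) := by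
  obtain ⟨b, hb⟩ : ∃ b, b ∉ A.blockZ a := by
    by_contra hall
    push Not at hall
    exact A.blockZ_ne_top H ha (Submodule.eq_top_iff'.2 hall)
  exact ⟨b, fun e => hb (e ▸ zero_mem _), A.disjoint_of_not_mem H hin ha hb⟩

theorem exists_three_parts {a b : X} (ha : a ≠ 0) (hb : b ≠ 0)
    (hd : Disjoint (A.block b) (A.blockZ a)) (u : X) :
    ∃ α ∈ A.block a, ∃ β ∈ A.block b, ∃ γ, γ ∈ A.blockZ a ∧ γ ∈ A.blockZ b ∧ u = α + β + γ := by
  obtain ⟨β, hβ, ζ, hζ, e⟩ := Submodule.mem_sup.1 (show u ∈ A.block b ⊔ A.blockZ a by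
    rw [A.block_sup_blockZ H hin ha hb hd]; exact Submodule.mem_top)
  obtain ⟨α, hα, γ, hγ, e'⟩ := Submodule.mem_sup.1 (show ζ ∈ A.block a ⊔ A.blockZ b by
    rw [A.block_sup_blockZ H hin hb ha (A.disjoint_symm H hin ha hb hd)]; exact Submodule.mem_top)
  refine ⟨α, hα, β, hβ, γ, ?_, hγ, ?_⟩
  · rw [eq_sub_of_add_eq' e']
    exact sub_mem hζ (A.block_le_blockZ hin ha hα)
  · rw [← e, ← e']
    abel

theorem block_le_sum {a b z : X} (ha : a ≠ 0) (hb : b ≠ 0)
    (hd : Disjoint (A.block b) (A.blockZ a)) (hz0 : z ≠ 0) (hz : z ∈ A.block a ⊔ A.block b) :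
    A.block z ≤ A.block a ⊔ A.block b := by
  intro y hy
  obtain ⟨α, hα, β, hβ, m, hma, hmb, e⟩ := A.exists_three_parts H hin ha hb hd y
  by_cases hm0 : m = 0
  · rw [e, hm0, add_zero]
    exact Submodule.add_mem_sup hα hβ
  exfalso
  have hle : ∀ w, w ≠ 0 → w ∈ A.blockZ a → w ∈ A.blockZ b → A.block a ⊔ A.block b ≤ A.blockZ w :=
    fun w hw0 hwa hwb => sup_le
      (A.block_perp_symm H hin ha hw0 (A.block_le_blockZ_of_mem H hin ha hw0 hwa))
      (A.block_perp_symm H hin hb hw0 (A.block_le_blockZ_of_mem H hin hb hw0 hwb))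
  have hmw : ∀ w, w ≠ 0 → w ∈ A.blockZ a → w ∈ A.blockZ b → w ∈ A.blockZ m := by
    intro w hw0 hwa hwb
    have h1 := hle w hw0 hwa hwb
    have h2 : m ∈ A.blockZ w := by
      rw [show m = y - α - β by rw [e]; abel]
      exact sub_mem (sub_mem (A.block_le_blockZ_of_mem H hin hw0 hz0 (h1 hz) hy)
        (h1 (Submodule.mem_sup_left hα))) (h1 (Submodule.mem_sup_right hβ))
    exact A.block_perp_symm H hin hw0 hm0 (A.block_le_blockZ_of_mem H hin hw0 hm0 h2)
      (A.self_mem_block hw0)
  refine A.blockZ_ne_top H hm0 (Submodule.eq_top_iff'.2 fun v => ?_)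
  obtain ⟨α', hα', β', hβ', γ, hγa, hγb, e'⟩ := A.exists_three_parts H hin ha hb hd v
  rw [e']
  refine add_mem (add_mem (hle m hm0 hma hmb (Submodule.mem_sup_left hα'))
    (hle m hm0 hma hmb (Submodule.mem_sup_right hβ'))) ?_
  rcases eq_or_ne γ 0 with rfl | hγ0
  · exact zero_mem _
  · exact hmw γ hγ0 hγa hγb

theorem T_add_nonperp {a b : X} (ha : a ≠ 0) (hb : b ≠ 0)
    (hd : Disjoint (A.block b) (A.blockZ a)) : A.T (a + b) ≤ A.T a ⊔ A.T b := by
  have hd' := A.disjoint_symm H hin ha hb hd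
  have hab : a + b ≠ 0 := fun e => hb (Submodule.disjoint_def.1 hd b (A.self_mem_block hb) (by
    rw [eq_neg_of_add_eq_zero_right e]
    exact neg_mem (A.block_le_blockZ hin ha (A.self_mem_block ha))))
  -- one component
  have half : ∀ a b : X, a ≠ 0 → b ≠ 0 → Disjoint (A.block b) (A.blockZ a) →
      Disjoint (A.block a) (A.blockZ b) → ∀ y α β : X, α ∈ A.block a → β ∈ A.block b →
      y = α + β → y ≠ 0 → A.S y = A.S (a + b) → a + b ≠ 0 → β ∈ A.T b := by
    intro a b ha hb hd hd' y α β hα hβ e hy0 hS hab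
    have hiff : ∀ u ∈ A.block a, u ≠ 0 → (β ∈ A.S u ↔ b ∈ A.S u) := by
      intro u hu hu0
      have hαu := A.block_le_S hin ha hu0 hu hα
      have hau := A.block_le_S hin ha hu0 hu (A.self_mem_block ha)
      calc β ∈ A.S u ↔ y ∈ A.S u := by rw [e]; exact (Submodule.add_mem_iff_right _ hαu).symm
        _ ↔ u ∈ A.S (a + b) :=
          ⟨fun h' => hS ▸ A.S_symm hu0 h', fun h' => A.S_symm hy0 (hS.symm ▸ h')⟩
        _ ↔ a + b ∈ A.S u := ⟨fun h' => A.S_symm hab h', fun h' => A.S_symm hu0 h'⟩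
        _ ↔ b ∈ A.S u := Submodule.add_mem_iff_right _ hau
    have hβ0 : β ≠ 0 := by
      intro h0
      refine hb (Submodule.disjoint_def.1 hd b (A.self_mem_block hb) (A.mem_blockZ.2 fun u hu hu0 => ?_))
      exact (hiff u hu hu0).1 (h0 ▸ zero_mem _)
    refine Or.inr ⟨hb, ?_⟩
    refine Submodule.eq_of_le_of_finrank_eq (fun v hv => ?_) (A.finrank_S_eq hβ0 hb)
    obtain ⟨p, hp, ζ, hζ, e'⟩ := Submodule.mem_sup.1 (show v ∈ A.block a ⊔ A.blockZ b by
      rw [A.block_sup_blockZ H hin hb ha hd']; exact Submodule.mem_top)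
    have hζb : ζ ∈ A.S b := A.mem_blockZ.1 hζ b (A.self_mem_block hb) hb
    have hζβ : ζ ∈ A.S β := A.mem_blockZ.1 hζ β hβ hβ0
    rw [← e'] at hv ⊢
    refine add_mem ?_ hζb
    rcases eq_or_ne p 0 with rfl | hp0
    · exact zero_mem _
    have hpβ : p ∈ A.S β := (Submodule.add_mem_iff_left _ hζβ).1 hv
    exact A.S_symm hp0 ((hiff p hp hp0).1 (A.S_symm hβ0 hpβ))
  intro y hy
  rcases eq_or_ne y 0 with rfl | hy0
  · exact zero_mem _
  have hS := ((A.mem_T hab).1 hy).resolve_left hy0
  have hys : y ∈ A.block a ⊔ A.block b := by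
    refine A.block_le_sum H hin ha hb hd hab
      (Submodule.add_mem_sup (A.self_mem_block ha) (A.self_mem_block hb)) ?_
    exact A.ball_le_block 0 _ (by rw [A.ball_zero]; exact hy)
  obtain ⟨α, hα, β, hβ, e⟩ := Submodule.mem_sup.1 hys
  rw [← e]
  refine Submodule.add_mem_sup ?_ (half a b ha hb hd hd' y α β hα hβ e.symm hy0 hS hab)
  exact half b a hb ha hd' hd y β α hβ hα (by rw [← e, add_comm]) hy0 (by rw [hS, add_comm])
    (by rwa [add_comm])

/-- Classes add up like points of a projective space. -/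
theorem T_add (a b : X) : A.T (a + b) ≤ A.T a ⊔ A.T b := by
  classical
  haveI : Fintype X := Fintype.ofFinite X
  rcases eq_or_ne a 0 with rfl | ha
  · rw [zero_add]; exact le_sup_right
  rcases eq_or_ne b 0 with rfl | hb
  · rw [add_zero]; exact le_sup_left
  rcases eq_or_ne (a + b) 0 with hab | hab
  · rw [hab, A.T_zero]; exact bot_le
  rcases A.block_dichotomy H hin ha hb with hp | hd
  swap
  · exact A.T_add_nonperp H hin ha hb hd
  have hbZ : b ∈ A.blockZ a := hp (A.self_mem_block hb)
  have hbS : b ∈ A.S a := A.mem_blockZ.1 hbZ a (A.self_mem_block ha) ha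
  obtain ⟨u, hua, hub, huS⟩ : ∃ u, u ∉ A.blockZ a ∧ u ∉ A.blockZ b ∧ u ∉ A.S (a + b) := by
    by_contra hall
    push Not at hall
    have hcard : ∀ U : Submodule (ZMod 2) X, finrank (ZMod 2) U + 2 * h ≤ finrank (ZMod 2) X →
        4 * (Finset.univ.filter fun z => z ∈ U).card ≤ Fintype.card X := by
      intro U hU
      rw [card_filter_mem, ← Nat.card_eq_fintype_card (α := X),
        Module.natCard_eq_pow_finrank (K := ZMod 2), Nat.card_zmod]
      have := H.pos
      calc 4 * 2 ^ finrank (ZMod 2) U = 2 ^ (finrank (ZMod 2) U + 2) := by ring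
        _ ≤ _ := Nat.pow_le_pow_right (by norm_num) (by omega)
    have h1 := hcard (A.blockZ a) (by
      have := A.finrank_blockZ H ha
      have := A.two_mul_le_finrank_block H ha
      omega)
    have h2 := hcard (A.blockZ b) (by
      have := A.finrank_blockZ H hb
      have := A.two_mul_le_finrank_block H hb
      omega)
    have h3 := hcard (A.S (a + b)) (by
      have := A.finrank_S_add_E (a + b)
      rw [H.rankE _ hab] at this
      omega)
    have hle : Fintype.card X ≤ (Finset.univ.filter fun z => z ∈ A.blockZ a).card +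
        (Finset.univ.filter fun z => z ∈ A.blockZ b).card +
        (Finset.univ.filter fun z => z ∈ A.S (a + b)).card := by
      refine le_trans ?_ ((Finset.card_union_le _ _).trans
        (Nat.add_le_add_right (Finset.card_union_le _ _) _))
      rw [← Finset.card_univ]
      refine Finset.card_le_card fun z _ => ?_
      simp only [Finset.mem_union, Finset.mem_filter, Finset.mem_univ, true_and]
      by_cases hza : z ∈ A.blockZ a
      · exact Or.inl (Or.inl hza)
      by_cases hzb : z ∈ A.blockZ b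
      · exact Or.inl (Or.inr hzb)
      exact Or.inr (hall z hza hzb)
    have hpos : 0 < Fintype.card X := Fintype.card_pos
    omega
  have hu0 : u ≠ 0 := fun e => hua (e ▸ zero_mem _)
  have hau : a + u ≠ 0 := fun e => hua (by
    rw [eq_neg_of_add_eq_zero_right e]
    exact neg_mem (A.block_le_blockZ hin ha (A.self_mem_block ha)))
  have hbu : b + u ≠ 0 := fun e => hua (by
    rw [eq_neg_of_add_eq_zero_right e]
    exact neg_mem hbZ)
  have hnot : b + u ∉ A.blockZ (a + u) := by
    intro hmem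
    have h1 : b + u ∈ A.S (a + u) := A.mem_blockZ.1 hmem _ (A.self_mem_block hau) hau
    have h2 : a + b ∈ A.S (a + u) := by
      have h3 := add_mem (A.self_mem_S (a + u)) h1
      rwa [show a + u + (b + u) = a + b by
        rw [show a + u + (b + u) = a + b + (u + u) by abel, ZModModule.add_self, add_zero]] at h3
    have h4 : a + u ∈ A.S (a + b) := A.S_symm hau h2
    have h5 : a ∈ A.S (a + b) := A.S_symm ha (add_mem (A.self_mem_S a) hbS)
    exact huS ((Submodule.add_mem_iff_right _ h5).1 h4)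
  have e : a + b = (a + u) + (b + u) := by
    rw [show a + u + (b + u) = a + b + (u + u) by abel, ZModModule.add_self, add_zero]
  have hsum : A.T (a + b) ≤ A.T a ⊔ A.T b ⊔ A.T u := by
    rw [e]
    refine (A.T_add_nonperp H hin hau hbu (A.disjoint_of_not_mem H hin hau hnot)).trans (sup_le ?_ ?_)
    · exact (A.T_add_nonperp H hin ha hu0 (A.disjoint_of_not_mem H hin ha hua)).trans
        (sup_le (le_sup_left.trans le_sup_left) le_sup_right)
    · exact (A.T_add_nonperp H hin hb hu0 (A.disjoint_of_not_mem H hin hb hub)).trans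
        (sup_le (le_sup_right.trans le_sup_left) le_sup_right)
  intro y hy
  obtain ⟨p, hp', μ, hμ, rfl⟩ := Submodule.mem_sup.1 (hsum hy)
  have habZ : a + b ∈ A.blockZ a := add_mem (A.block_le_blockZ hin ha (A.self_mem_block ha)) hbZ
  have hyZ : p + μ ∈ A.blockZ a :=
    A.block_le_blockZ_of_mem H hin ha hab habZ (A.ball_le_block 0 _ (by rw [A.ball_zero]; exact hy))
  have hpZ : p ∈ A.blockZ a := sup_le
    ((A.T_le_block (A.self_mem_block ha)).trans (A.block_le_blockZ hin ha))
    ((A.T_le_block (A.self_mem_block hb)).trans hp) hp'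
  have : μ = 0 := Submodule.disjoint_def.1 (A.disjoint_of_not_mem H hin ha hua) μ
    (A.T_le_block (A.self_mem_block hu0) hμ) ((Submodule.add_mem_iff_right _ hpZ).1 hyZ)
  rw [this, add_zero]
  exact hp'

theorem classClosed_sup {U V : Submodule (ZMod 2) X} (hU : A.ClassClosed U)
    (hV : A.ClassClosed V) : A.ClassClosed (U ⊔ V) := by
  intro z hz
  obtain ⟨p, hp, q, hq, rfl⟩ := Submodule.mem_sup.1 hz
  exact (A.T_add H hin p q).trans (sup_le_sup (hU p hp) (hV q hq))

theorem classClosed_hop (U : Submodule (ZMod 2) X) : A.ClassClosed (A.hop U) := by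
  intro z hz
  have hz' : z ∈ ⨆ y : A.dn U, A.R y.1 := by
    refine (A.up_le_iff.2 fun y hy => ?_) hz
    exact le_iSup (fun y : A.dn U => A.R y.1) ⟨y, hy⟩
  refine Submodule.iSup_induction (fun y : A.dn U => A.R y.1)
    (motive := fun z => A.T z ≤ A.hop U) hz' ?_ ?_ ?_
  · exact fun y v hv => (A.classClosed_R y.1 v hv).trans (A.R_le_up y.2)
  · rw [A.T_zero]; exact bot_le
  · exact fun p q hp hq => (A.T_add H hin p q).trans (sup_le hp hq)

theorem dvd_finrank_of_classClosed {U : Submodule (ZMod 2) X} (hU : A.ClassClosed U) :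
    h ∣ finrank (ZMod 2) U := by
  classical
  haveI : Fintype X := Fintype.ofFinite X
  let Uf : Finset X := (Finset.univ.filter fun z => z ∈ U).erase 0
  have hd : 2 ^ h - 1 ∣ Uf.card := by
    rw [Finset.card_eq_sum_card_image A.T Uf]
    refine Finset.dvd_sum fun K hK => ?_
    obtain ⟨v, hv, rfl⟩ := Finset.mem_image.1 hK
    simp only [Uf, Finset.mem_erase, Finset.mem_filter, Finset.mem_univ, true_and] at hv
    have hs : (Uf.filter fun z => A.T z = A.T v) =
        (Finset.univ.filter fun z => z ∈ A.T v).erase 0 := by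
      ext z
      simp only [Uf, Finset.mem_erase, Finset.mem_filter, Finset.mem_univ, true_and]
      exact ⟨fun ⟨⟨hz0, _⟩, e⟩ => ⟨hz0, e ▸ A.self_mem_T' z⟩,
        fun ⟨hz0, hz⟩ => ⟨⟨hz0, hU v hv.2 hz⟩, A.T_eq hv.1 hz hz0⟩⟩
    rw [hs, Finset.card_erase_of_mem (by simp), card_filter_mem, H.rankT v hv.1]
  rw [Finset.card_erase_of_mem (by simp), card_filter_mem] at hd
  have h1 := Nat.pow_sub_one_gcd_pow_sub_one 2 h (finrank (ZMod 2) U)
  rw [Nat.gcd_eq_left hd] at h1
  have h2 := Nat.one_le_two_pow (n := h)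
  have h3 := Nat.one_le_two_pow (n := Nat.gcd h (finrank (ZMod 2) U))
  have h4 : h = Nat.gcd h (finrank (ZMod 2) U) := Nat.pow_right_injective le_rfl
    (show 2 ^ h = 2 ^ Nat.gcd h (finrank (ZMod 2) U) by omega)
  rw [h4]
  exact Nat.gcd_dvd_right _ _

theorem classClosed_T (x : X) : A.ClassClosed (A.T x) := by
  intro z hz
  rcases eq_or_ne z 0 with rfl | hz0
  · rw [A.T_zero]; exact bot_le
  rcases eq_or_ne x 0 with rfl | hx
  · rw [A.T_zero, Submodule.mem_bot] at hz
    exact absurd hz hz0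
  · rw [A.T_eq hx hz hz0]

theorem classClosed_ball (i : ℕ) (x : X) : A.ClassClosed (A.ball i x) := by
  cases i with
  | zero => exact A.classClosed_T H hin x
  | succ i => rw [A.ball_succ]; exact A.classClosed_hop H hin _

theorem classClosed_lball (i : ℕ) (y : Y) : A.ClassClosed (A.lball i y) := by
  cases i with
  | zero => exact A.classClosed_R y
  | succ i => rw [lball, Function.iterate_succ_apply']; exact A.classClosed_hop H hin _

theorem dvd_finrank_ball (i : ℕ) (x : X) : h ∣ finrank (ZMod 2) (A.ball i x) :=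
  A.dvd_finrank_of_classClosed H hin (A.classClosed_ball H hin i x)

theorem dvd_finrank_lball (i : ℕ) (y : Y) : h ∣ finrank (ZMod 2) (A.lball i y) :=
  A.dvd_finrank_of_classClosed H hin (A.classClosed_lball H hin i y)

theorem plane_sup_E {x u v : X} (hx : x ≠ 0) (hg : finrank (ZMod 2) (A.block x) = 3 * h)
    (hu : u ∈ A.block x) (hv : v ∈ A.block x) (hu0 : u ≠ 0) (hv0 : v ≠ 0) (hvT : v ∉ A.T u) :
    A.E u ⊔ A.E v = A.dn (A.block x) := by
  refine Submodule.eq_of_le_of_finrank_le (sup_le (A.E_le_dn hu) (A.E_le_dn hv)) ?_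
  rw [A.finrank_dn_block H hx, hg]
  have h1 := Submodule.finrank_sup_add_finrank_inf_eq (A.E u) (A.E v)
  rw [H.rankE u hu0, H.rankE v hv0] at h1
  rcases eq_or_ne (A.E u ⊓ A.E v) ⊥ with he | he
  · rw [he, finrank_bot] at h1
    omega
  · rw [H.pair u v hu0 hv0 hvT he] at h1
    omega

/-- A block is not a plane. -/
theorem no_plane {x : X} (hx : x ≠ 0) (hg : finrank (ZMod 2) (A.block x) = 3 * h) : False := by
  haveI : Nontrivial X := nontrivial_of_ne x 0 hx
  have hpos := H.pos
  have hrk : ∀ a : X, a ≠ 0 → finrank (ZMod 2) (A.block a) = 3 * h :=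
    fun a ha => (A.finrank_block_eq ha hx).trans hg
  have huniq : ∀ a w u v : X, a ≠ 0 → w ∉ A.blockZ a → u ∈ A.block a → v ∈ A.block a → u ≠ 0 →
      v ≠ 0 → w ∈ A.S u → w ∈ A.S v → v ∈ A.T u := by
    intro a w u v ha hw hu hv hu0 hv0 hwu hwv
    by_contra hvT
    refine hw fun y hy => ?_
    change A.b w y = 0
    rw [← A.plane_sup_E H hin ha (hrk a ha) hu hv hu0 hv0 hvT] at hy
    obtain ⟨p, hp, q, hq, rfl⟩ := Submodule.mem_sup.1 hy
    rw [map_add, hp w hwu, hq w hwv, add_zero]
  let D : YConf X (3 * h) h :=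
    { T := A.T
      Y := A.block
      Z := A.blockZ
      S := A.S
      mem_T := fun u hu => A.self_mem_T hu
      T_eq := fun u v hu hv hvu => A.T_eq hu hvu hv
      finrank_T := H.rankT
      T_le_Y := fun u hu => A.T_le_block (A.self_mem_block hu)
      Y_eq := fun u v hu hv hvu => A.block_eq hu hv hvu
      finrank_Y := hrk
      Z_eq := fun u v hu hv hvu => A.blockZ_eq H hu hv hvu
      finrank_Z := fun u hu => by
        have := A.finrank_blockZ H hu
        rw [hrk u hu] at this
        exact this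
      finrank_S := fun u hu => by
        have h1 := A.finrank_blockZ H hu
        have h2 := A.finrank_S_add_E u
        rw [hrk u hu] at h1
        rw [H.rankE u hu] at h2
        omega
      S_symm := fun u v hu _ hvu => A.S_symm hu hvu
      S_eq := fun u v hu hv hvu => ((A.mem_T hu).1 hvu).resolve_left hv
      Y_le_S := fun u hu => A.block_le_S hin hu hu (A.self_mem_block hu)
      Z_le_S := fun u hu z hz => A.mem_blockZ.1 hz u (A.self_mem_block hu) hu
      mem_Z := fun u w hu hw => A.mem_blockZ.2 hw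
      exists_class := fun u w hu hw => by
        have hw0 : w ≠ 0 := fun e => hw (e ▸ zero_mem _)
        have hne : A.block u ⊓ A.S w ≠ ⊥ := by
          intro he
          have h1 := Submodule.finrank_sup_add_finrank_inf_eq (A.block u) (A.S w)
          have h2 := A.finrank_S_add_E w
          have h3 := Submodule.finrank_le (A.block u ⊔ A.S w)
          rw [he, finrank_bot, hrk u hu] at h1
          rw [H.rankE w hw0] at h2
          omega
        obtain ⟨v, hv, hv0⟩ := Submodule.exists_mem_ne_zero_of_ne_bot hne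
        exact ⟨v, hv.1, hv0, A.S_symm hw0 hv.2⟩
      class_unique := fun u w hu hw p hp p' hp' hp0 hp'0 h1 h2 =>
        huniq u w p p' hu hw hp hp' hp0 hp'0 h1 h2
      line_closed := fun u v z hu hv hz hvu hzl =>
        A.classClosed_sup H hin (A.classClosed_T H hin u) (A.classClosed_T H hin v) z hzl
      line_S := fun u v z hu hv hz hvu hzl w hw => A.mem_of_perp fun φ hφ => by
        rcases eq_or_ne φ 0 with rfl | hφ0
        · simp
        have h1 : φ ∈ A.E u := fun q hq => hφ q (Submodule.mem_sup_left hq)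
        have h2 : φ ∈ A.E v := fun q hq => hφ q (Submodule.mem_sup_right hq)
        exact (A.mem_R_iff_mem_E hz hφ0).1
          (sup_le (A.T_le_R hu hφ0 h1) (A.T_le_R hv hφ0 h2) hzl) w hw }
  exact YConf.false (by omega) D

end AF

end Cfsg.Agent.TransLinTwo
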