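import Cfsg.Agent.Lib.Perm.TransLinTwo.Hex.Geo

/-!
# The case `e = 2 h` satisfies the two-step hypotheses
-/

set_option autoImplicit false
set_option linter.unusedSectionVars false

namespace Cfsg.Agent.TransLinTwo

open Module

namespace AF

variable {G X Y : Type*} [Group G] [Finite G] [AddCommGroup X] [Module (ZMod 2) X] [Finite X]
  [AddCommGroup Y] [Module (ZMod 2) Y] [Finite Y] (A : AF G X Y)

/-- If the classes have half the dimension of the `E x` and the latter are disjoint off `S`, two
of them meet in nothing or in a space of the dimension of a class. -/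
theorem twoStep_of_half
    (hspan : ∀ x w : X, x ≠ 0 → w ∉ A.S x →
      finrank (ZMod 2) ↥(A.S x ⊓ A.S w) + finrank (ZMod 2) (A.E x) = finrank (ZMod 2) (A.S x) ∧
        A.E x ⊓ A.E w = ⊥)
    {x : X} (hx : x ≠ 0) (he : finrank (ZMod 2) (A.E x) = 2 * finrank (ZMod 2) (A.T x)) :
    A.TwoStep (finrank (ZMod 2) (A.T x)) := by
  have hpos : 1 ≤ finrank (ZMod 2) (A.T x) := by
    rw [Nat.one_le_iff_ne_zero, ne_eq, Submodule.finrank_eq_zero]
    intro h0
    have hm := A.self_mem_T hx
    rw [h0, Submodule.mem_bot] at hm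
    exact hx hm
  have hE : ∀ z : X, z ≠ 0 → finrank (ZMod 2) (A.E z) = 2 * finrank (ZMod 2) (A.T x) :=
    fun z hz => (A.finrank_E_eq hz hx).trans he
  have hT : ∀ z : X, z ≠ 0 → finrank (ZMod 2) (A.T z) = finrank (ZMod 2) (A.T x) :=
    fun z hz => A.finrank_T_eq hz hx
  refine ⟨hpos, hE, hT, fun z w hz hw => (hspan z w hz hw).2, fun z u hz hu huT hne => ?_⟩
  have huS : u ∈ A.S z := by_contra fun hn => hne (hspan z u hz hn).2
  have h1 := (A.level_structure hspan hz (by rw [hE z hz, hT z hz]; omega)).1 u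
    ⟨hu, huT, huS, hne⟩
  rw [hE z hz, hT z hz] at h1
  omega

end AF

end Cfsg.Agent.TransLinTwo
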