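import Cfsg.Agent.Lib.Perm.TransLinTwo.Hex.Cover

/-!
# Counting classes

A subspace which is a union of classes of size `q = 2 ^ h` and has dimension `m h` contains
`1 + q + ... + q ^ (m - 1)` classes.
-/

set_option autoImplicit false
set_option linter.unusedSectionVars false
set_option linter.style.haveILetI false

namespace Cfsg.Agent.TransLinTwo

open Module

namespace AF

variable {G X Y : Type*} [Group G] [Finite G] [AddCommGroup X] [Module (ZMod 2) X] [Finite X]
  [AddCommGroup Y] [Module (ZMod 2) Y] [Finite Y] (A : AF G X Y)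

/-- The classes of the nonzero members of a subspace. -/
noncomputable def classesIn (P : Submodule (ZMod 2) X) : Finset (Submodule (ZMod 2) X) := by
  classical
  haveI := Fintype.ofFinite X
  exact (Finset.univ.filter fun x : X => x ∈ P ∧ x ≠ 0).image A.T

theorem mem_classesIn {P U : Submodule (ZMod 2) X} :
    U ∈ A.classesIn P ↔ ∃ x ∈ P, x ≠ 0 ∧ A.T x = U := by
  classical
  haveI := Fintype.ofFinite X
  simp only [classesIn, Finset.mem_image, Finset.mem_filter, Finset.mem_univ, true_and, and_assoc]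

theorem classesIn_mono {P Q : Submodule (ZMod 2) X} (hle : P ≤ Q) :
    A.classesIn P ⊆ A.classesIn Q := fun U hU => by
  obtain ⟨x, hx, hx0, rfl⟩ := A.mem_classesIn.1 hU
  exact A.mem_classesIn.2 ⟨x, hle hx, hx0, rfl⟩

theorem T_mem_classesIn {P : Submodule (ZMod 2) X} {x : X} (hx : x ∈ P) (hx0 : x ≠ 0) :
    A.T x ∈ A.classesIn P := A.mem_classesIn.2 ⟨x, hx, hx0, rfl⟩

theorem card_classesIn {h : ℕ} (H : A.TwoStep h) {P : Submodule (ZMod 2) X} {m : ℕ}
    (hP : ∀ x ∈ P, x ≠ 0 → A.T x ≤ P) (hm : finrank (ZMod 2) P = m * h) :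
    (A.classesIn P).card = ∑ j ∈ Finset.range m, (2 ^ h) ^ j := by
  classical
  haveI := Fintype.ofFinite X
  set V : Finset X := Finset.univ.filter fun x => x ∈ P ∧ x ≠ 0 with hV
  have hfib : ∀ U ∈ A.classesIn P, (V.filter fun x => A.T x = U).card = 2 ^ h - 1 := by
    intro U hU
    obtain ⟨x, hx, hx0, rfl⟩ := A.mem_classesIn.1 hU
    rw [← H.rankT x hx0, ← card_filter_mem (A.T x), show (V.filter fun u => A.T u = A.T x) =
        (Finset.univ.filter fun u => u ∈ A.T x).erase 0 by
      ext u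
      simp only [hV, Finset.mem_filter, Finset.mem_univ, true_and, Finset.mem_erase]
      exact ⟨fun hu => ⟨hu.1.2, hu.2 ▸ A.self_mem_T hu.1.2⟩,
        fun hu => ⟨⟨hP x hx hx0 hu.2, hu.1⟩, A.T_eq hx0 hu.2 hu.1⟩⟩,
      Finset.card_erase_of_mem (by simp)]
  have hmap : Set.MapsTo A.T V (A.classesIn P) := fun x hx => by
    simp only [hV, Finset.coe_filter, Finset.mem_univ, true_and, Set.mem_setOf_eq] at hx
    exact A.T_mem_classesIn hx.1 hx.2
  have h1 : V.card = (A.classesIn P).card * (2 ^ h - 1) := by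
    rw [Finset.card_eq_sum_card_fiberwise hmap, Finset.sum_congr rfl hfib, Finset.sum_const,
      smul_eq_mul]
  have h2 : V.card = 2 ^ (m * h) - 1 := by
    rw [show V = (Finset.univ.filter fun x => x ∈ P).erase 0 by ext v; simp [hV, and_comm],
      Finset.card_erase_of_mem (by simp), card_filter_mem P, hm]
  have h3 : (∑ j ∈ Finset.range m, (2 ^ h) ^ j) * (2 ^ h - 1) = 2 ^ (m * h) - 1 := by
    obtain ⟨a, ha⟩ : ∃ a, 2 ^ h = a + 1 := ⟨_, (Nat.succ_pred_eq_of_pos (Nat.two_pow_pos h)).symm⟩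
    have := geom_sum_mul_add a m
    rw [← ha] at this
    rw [mul_comm m h, pow_mul, ha, Nat.add_sub_cancel, ← ha, ← this, Nat.add_sub_cancel]
  have hq : 0 < 2 ^ h - 1 := by
    have := Nat.one_lt_two_pow (n := h) (by have := H.pos; omega)
    omega
  exact Nat.eq_of_mul_eq_mul_right hq (h1.symm.trans (h2.trans h3.symm))

end AF

end Cfsg.Agent.TransLinTwo
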