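import Cfsg.Agent.Lib.Perm.TransLinTwo.Hex.Lines

/-!
# Covering of balls

While the balls grow by full steps, a ball is the union of the smaller balls of its first neighbours
and the points at the rim have exactly one first neighbour.
-/

set_option autoImplicit false
set_option linter.unusedSectionVars false
set_option linter.style.haveILetI false

namespace Cfsg.Agent.TransLinTwo

open Module

/-- A space of dimension `m + 2 h` is covered by subspaces of dimension `m + h` indexed by the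
classes of a space of dimension `2 h` which meet pairwise in a common subspace of dimension `m`. -/
theorem spread_cover {U W : Type*} [AddCommGroup U] [Module (ZMod 2) U] [Finite U] [AddCommGroup W]
    [Module (ZMod 2) W] [Finite W] (P : Submodule (ZMod 2) U) (cls : U → Submodule (ZMod 2) U)
    (f : U → Submodule (ZMod 2) W) (K L : Submodule (ZMod 2) W) (h m : ℕ) (hh : 1 ≤ h)
    (hP : finrank (ZMod 2) P = 2 * h)
    (hcls : ∀ v ∈ P, v ≠ 0 → finrank (ZMod 2) (cls v) = h)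
    (hK : finrank (ZMod 2) K = m) (hL : finrank (ZMod 2) L = m + 2 * h)
    (hf : ∀ v ∈ P, v ≠ 0 → K ≤ f v ∧ f v ≤ L ∧ finrank (ZMod 2) (f v) = m + h)
    (hdis : ∀ v ∈ P, ∀ v' ∈ P, v ≠ 0 → v' ≠ 0 → v' ∉ cls v → f v ⊓ f v' ≤ K)
    {z : W} (hzL : z ∈ L) (hzK : z ∉ K) : ∃ v ∈ P, v ≠ 0 ∧ z ∈ f v := by
  classical
  haveI : Fintype U := Fintype.ofFinite U
  haveI : Fintype W := Fintype.ofFinite W
  let V : Finset U := Finset.univ.filter fun v => v ∈ P ∧ v ≠ 0
  let Z : Finset W := Finset.univ.filter fun w => w ∈ L ∧ w ∉ K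
  by_contra hcon
  push Not at hcon
  have hV : V.card = 2 ^ (2 * h) - 1 := by
    rw [show V = (Finset.univ.filter fun v => v ∈ P).erase 0 by ext v; simp [V, and_comm],
      Finset.card_erase_of_mem (by simp), AF.card_filter_mem P, hP]
  have hZ : Z.card = 2 ^ (m + 2 * h) - 2 ^ m := by
    rw [show Z = (Finset.univ.filter fun w => w ∈ L) \ (Finset.univ.filter fun w => w ∈ K) by
        ext w; simp [Z],
      Finset.card_sdiff_of_subset, AF.card_filter_mem L, AF.card_filter_mem K, hK, hL]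
    intro w hw
    simp only [Finset.mem_filter, Finset.mem_univ, true_and] at hw ⊢
    obtain ⟨v, hv, hv0⟩ := Submodule.exists_mem_ne_zero_of_ne_bot (p := P)
      (fun e => by rw [e, finrank_bot] at hP; omega)
    exact (hf v hv hv0).2.1 ((hf v hv hv0).1 hw)
  have h1 : ∀ v ∈ V, (Z.filter fun w => w ∈ f v).card = 2 ^ (m + h) - 2 ^ m := by
    intro v hv
    simp only [V, Finset.mem_filter, Finset.mem_univ, true_and] at hv
    obtain ⟨h1, h2, h3⟩ := hf v hv.1 hv.2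
    rw [show (Z.filter fun w => w ∈ f v) =
        (Finset.univ.filter fun w => w ∈ f v) \ (Finset.univ.filter fun w => w ∈ K) by
        ext w
        simp only [Z, Finset.mem_filter, Finset.mem_univ, true_and, Finset.mem_sdiff]
        exact ⟨fun a => ⟨a.2, a.1.2⟩, fun a => ⟨⟨h2 a.1, a.2⟩, a.1⟩⟩,
      Finset.card_sdiff_of_subset, AF.card_filter_mem (f v), AF.card_filter_mem K, hK, h3]
    intro w hw
    simp only [Finset.mem_filter, Finset.mem_univ, true_and] at hw ⊢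
    exact h1 hw
  have h2 : ∀ w ∈ Z.erase z, (V.filter fun v => w ∈ f v).card ≤ 2 ^ h - 1 := by
    intro w hw
    rcases (V.filter fun v => w ∈ f v).eq_empty_or_nonempty with he | ⟨v, hv⟩
    · simp [he]
    simp only [V, Finset.mem_filter, Finset.mem_univ, true_and] at hv
    refine (Finset.card_le_card (t := (Finset.univ.filter fun u => u ∈ cls v).erase 0) ?_).trans ?_
    · intro v' hv'
      simp only [V, Z, Finset.mem_filter, Finset.mem_univ, true_and, Finset.mem_erase] at hv' hw ⊢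
      refine ⟨hv'.1.2, ?_⟩
      by_contra hn
      exact hw.2.2 (hdis v hv.1.1 v' hv'.1.1 hv.1.2 hv'.1.2 hn ⟨hv.2, hv'.2⟩)
    · rw [Finset.card_erase_of_mem (by simp), AF.card_filter_mem (cls v), hcls v hv.1.1 hv.1.2]
  have hsum : ∑ v ∈ V, (Z.filter fun w => w ∈ f v).card = ∑ w ∈ Z, (V.filter fun v => w ∈ f v).card := by
    simp only [Finset.card_filter]
    exact Finset.sum_comm
  have hzZ : z ∈ Z := by simp [Z, hzL, hzK]
  have hz0 : (V.filter fun v => z ∈ f v).card = 0 := by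
    rw [Finset.card_eq_zero, Finset.filter_eq_empty_iff]
    intro v hv
    simp only [V, Finset.mem_filter, Finset.mem_univ, true_and] at hv
    exact hcon v hv.1 hv.2
  have h3 := Finset.sum_le_card_nsmul _ _ _ h2
  rw [Finset.sum_congr rfl h1, Finset.sum_const, hV, smul_eq_mul, ← Finset.sum_erase_add _ _ hzZ,
    hz0, add_zero] at hsum
  rw [← hsum, Finset.card_erase_of_mem hzZ, hZ, smul_eq_mul] at h3
  have e1 : 2 ^ (m + 2 * h) - 2 ^ m = 2 ^ m * (2 ^ (2 * h) - 1) := by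
    rw [Nat.mul_sub, mul_one, pow_add]
  have e2 : 2 ^ (m + h) - 2 ^ m = 2 ^ m * (2 ^ h - 1) := by rw [Nat.mul_sub, mul_one, pow_add]
  rw [e1, e2] at h3
  have hq : 1 < 2 ^ h := Nat.one_lt_two_pow (by omega)
  have hq2 : 1 < 2 ^ (2 * h) := Nat.one_lt_two_pow (by omega)
  obtain ⟨a, ha⟩ : ∃ a, 2 ^ h - 1 = a + 1 := ⟨2 ^ h - 2, by omega⟩
  obtain ⟨c, hc⟩ : ∃ c, 2 ^ m * (2 ^ (2 * h) - 1) = c + 1 :=
    ⟨_, (Nat.succ_pred_eq_of_pos (Nat.mul_pos (Nat.two_pow_pos m) (by omega))).symm⟩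
  rw [hc, ha, Nat.add_sub_cancel] at h3
  have e3 : (2 ^ (2 * h) - 1) * (2 ^ m * (a + 1)) = (c + 1) * (a + 1) := by rw [← hc]; ring
  rw [e3, add_mul, one_mul] at h3
  omega

namespace AF

variable {G X Y : Type*} [Group G] [Finite G] [AddCommGroup X] [Module (ZMod 2) X] [Finite X]
  [AddCommGroup Y] [Module (ZMod 2) Y] [Finite Y] (A : AF G X Y)

/-- The balls up to `n` half steps have full size. -/
structure Full (h n : ℕ) : Prop where
  two : A.TwoStep h
  le : 2 ≤ n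
  ball : ∀ i (x : X), 2 * i ≤ n → x ≠ 0 → finrank (ZMod 2) (A.ball i x) = (2 * i + 1) * h
  lball : ∀ i (y : Y), 2 * i + 1 ≤ n → y ≠ 0 → finrank (ZMod 2) (A.lball i y) = (2 * i + 2) * h

variable {h n : ℕ} (F : A.Full h n)
include F

theorem ball_inf (i : ℕ) (hi : 2 * (i + 1) + 1 ≤ n) {x u : X} (hx : x ≠ 0) (hu : u ≠ 0)
    (huT : u ∉ A.T x) {y : Y} (hy : y ≠ 0) (hyx : y ∈ A.E x) (hyu : y ∈ A.E u) :
    A.ball (i + 1) x ⊓ A.ball (i + 1) u = A.lball i y := by
  symm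
  have H := F.two
  refine Submodule.eq_of_le_of_finrank_le
    (le_inf (A.lball_le_ball_succ H i hx hyx) (A.lball_le_ball_succ H i hu hyu)) ?_
  have h1 := Submodule.finrank_sup_add_finrank_inf_eq (A.ball (i + 1) x) (A.ball (i + 1) u)
  rw [← A.lball_eq_sup H (i + 1) hx hu huT hy hyx hyu, F.lball _ y hi hy, F.ball _ x (by omega) hx,
    F.ball _ u (by omega) hu] at h1
  rw [F.lball i y (by omega) hy]
  nlinarith

theorem lball_inf (i : ℕ) (hi : 2 * (i + 1) ≤ n) {x : X} (hx : x ≠ 0) {y p : Y} (hy : y ≠ 0)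
    (hp : p ≠ 0) (hyx : y ∈ A.E x) (hpx : p ∈ A.E x) (hpT : p ∉ A.swap.T y) :
    A.lball i y ⊓ A.lball i p = A.ball i x := by
  symm
  have H := F.two
  refine Submodule.eq_of_le_of_finrank_le
    (le_inf (A.ball_le_lball H i hx hy hyx) (A.ball_le_lball H i hx hp hpx)) ?_
  have h1 := Submodule.finrank_sup_add_finrank_inf_eq (A.lball i y) (A.lball i p)
  rw [← A.ball_succ_eq_sup H i hx hy hp hyx hpx hpT, F.ball _ x hi hx, F.lball i y (by omega) hy,
    F.lball i p (by omega) hp] at h1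
  rw [F.ball i x (by omega) hx]
  nlinarith

theorem lball_exists (i : ℕ) (hi : 2 * i + 1 ≤ n) {y : Y} (hy : y ≠ 0) {z : X}
    (hz : z ∈ A.lball i y) (hz0 : z ≠ 0) : ∃ v ∈ A.R y, v ≠ 0 ∧ z ∈ A.ball i v := by
  have H := F.two
  cases i with
  | zero => exact ⟨z, hz, hz0, A.self_mem_T hz0⟩
  | succ i =>
    obtain ⟨v, hv⟩ := A.swap.exists_I hy
    have hvy : v ∈ A.R y := (A.swap.mem_E_iff hy).2 (Or.inr hv)
    by_cases hzK : z ∈ A.lball i y
    · exact ⟨v, hvy, hv.2.1, A.lball_le_ball_succ H i hv.2.1 (A.mem_E_of_mem_R H hv.2.1 hy hvy) hzK⟩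
    refine spread_cover (A.R y) A.T (A.ball (i + 1)) (A.lball i y) (A.lball (i + 1) y) h
      ((2 * i + 2) * h) H.pos (A.finrank_R H hy) (fun v _ hv => H.rankT v hv) (F.lball i y (by omega) hy)
      ((F.lball (i + 1) y hi hy).trans (by ring)) (fun v hv hv0 => ?_)
      (fun v hv v' hv' hv0 hv0' hn => ?_) hz hzK
    · have hyv := A.mem_E_of_mem_R H hv0 hy hv
      exact ⟨A.lball_le_ball_succ H i hv0 hyv, A.ball_le_lball H (i + 1) hv0 hy hyv,
        (F.ball (i + 1) v (by omega) hv0).trans (by ring)⟩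
    · exact (A.ball_inf F i hi hv0 hv0' hn hy (A.mem_E_of_mem_R H hv0 hy hv)
        (A.mem_E_of_mem_R H hv0' hy hv')).le

theorem ball_exists (i : ℕ) (hi : 2 * (i + 1) ≤ n) {x : X} (hx : x ≠ 0) {z : X}
    (hz : z ∈ A.ball (i + 1) x) : ∃ y ∈ A.E x, y ≠ 0 ∧ z ∈ A.lball i y := by
  have H := F.two
  obtain ⟨y, hy, hyx⟩ := A.exists_flag hx
  by_cases hzK : z ∈ A.ball i x
  · exact ⟨y, hyx, hy, A.ball_le_lball H i hx hy hyx hzK⟩
  refine spread_cover (A.E x) A.swap.T (A.lball i) (A.ball i x) (A.ball (i + 1) x) h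
    ((2 * i + 1) * h) H.pos (H.rankE x hx) (fun p _ hp => A.finrank_swap_T H hp)
    (F.ball i x (by omega) hx) ((F.ball (i + 1) x hi hx).trans (by ring)) (fun p hp hp0 => ?_)
    (fun p hp p' hp' hp0 hp0' hn => ?_) hz hzK
  · exact ⟨A.ball_le_lball H i hx hp0 hp, A.lball_le_ball_succ H i hx hp,
      (F.lball i p (by omega) hp0).trans (by ring)⟩
  · exact (A.lball_inf F i hi hx hp0 hp0' hp hp' hn).le

theorem line_unique (i : ℕ) (hi : 2 * (i + 1) ≤ n) {x z : X} (hx : x ≠ 0) (hz : z ∉ A.ball i x)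
    {y p : Y} (hy : y ≠ 0) (hp : p ≠ 0) (hyx : y ∈ A.E x) (hpx : p ∈ A.E x)
    (hzy : z ∈ A.lball i y) (hzp : z ∈ A.lball i p) : p ∈ A.swap.T y := by
  by_contra hn
  exact hz (A.lball_inf F i hi hx hy hp hyx hpx hn ▸ ⟨hzy, hzp⟩)

theorem point_unique (i : ℕ) (hi : 2 * (i + 1) + 1 ≤ n) {y : Y} (hy : y ≠ 0) {z v v' : X}
    (hz : z ∉ A.lball i y) (hv : v ≠ 0) (hv' : v' ≠ 0) (hyv : y ∈ A.E v) (hyv' : y ∈ A.E v')
    (hzv : z ∈ A.ball (i + 1) v) (hzv' : z ∈ A.ball (i + 1) v') : v' ∈ A.T v := by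
  by_contra hn
  exact hz (A.ball_inf F i hi hv hv' hn hy hyv hyv' ▸ ⟨hzv, hzv'⟩)

theorem ball_step (i : ℕ) (hi : 2 * (i + 1) ≤ n) {x z : X} (hx : x ≠ 0)
    (hz : z ∈ A.ball (i + 1) x) (hz0 : z ≠ 0) :
    ∃ v ∈ A.ball 1 x, v ≠ 0 ∧ z ∈ A.ball i v := by
  obtain ⟨y, hyx, hy, hzy⟩ := A.ball_exists F i hi hx hz
  obtain ⟨v, hv, hv0, hzv⟩ := A.lball_exists F i (by omega) hy hzy hz0
  exact ⟨v, A.R_le_ball_one hx hyx hv, hv0, hzv⟩

theorem ball_one_symm {x z : X} (hx : x ≠ 0) (hz : z ∈ A.ball 1 x) (hz0 : z ≠ 0) :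
    x ∈ A.ball 1 z := by
  obtain ⟨y, hyx, hy, hzy⟩ := A.ball_exists F 0 (by have := F.le; omega) hx hz
  exact A.R_le_ball_one hz0 (A.mem_E_of_mem_R F.two hz0 hy hzy) (A.mem_R_self hx hy hyx)

theorem T_le_ball (i : ℕ) (hi : 2 * i ≤ n) {x z : X} (hx : x ≠ 0) (hz : z ∈ A.ball i x)
    (hz0 : z ≠ 0) : A.T z ≤ A.ball i x := by
  induction i generalizing x with
  | zero => exact (A.T_eq hx hz hz0).le
  | succ i ih =>
    obtain ⟨v, hv, hv0, hzv⟩ := A.ball_step F i hi hx hz hz0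
    refine (ih (by omega) hv0 hzv).trans ?_
    obtain ⟨y, hyx, hy, hvy⟩ := A.ball_exists F 0 (by omega) hx hv
    exact (A.ball_le_lball F.two i hv0 hy (A.mem_E_of_mem_R F.two hv0 hy hvy)).trans
      (A.lball_le_ball_succ F.two i hx hyx)

theorem ball_symm (i : ℕ) (hi : 2 * i ≤ n) {x z : X} (hx : x ≠ 0) (hz : z ∈ A.ball i x)
    (hz0 : z ≠ 0) : x ∈ A.ball i z := by
  induction i generalizing x with
  | zero =>
    rw [ball_zero, A.T_eq hx hz hz0]
    exact A.self_mem_T hx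
  | succ i ih =>
    obtain ⟨v, hv, hv0, hzv⟩ := A.ball_step F i hi hx hz hz0
    have h1 := A.hop_mono (A.T_le_ball F i (by omega) hz0 (ih (by omega) hv0 hzv) hv0)
    rw [← A.ball_succ] at h1
    refine h1 ?_
    have h2 := A.ball_one_symm F hx hv hv0
    simpa only [ball, Function.iterate_one] using h2

end AF

end Cfsg.Agent.TransLinTwo
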