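import Cfsg.Agent.Lib.Perm.TransLinTwo.Hex.Polar

/-!
# The case `e = 2 h` does not occur

The balls either fill the space by full steps, which gives a generalised polygon with an odd
parameter, or stay in the neighbourhoods; then a block is a plane, an odd polygon, or an even
polygon whose polarities contradict each other.
-/

set_option autoImplicit false
set_option linter.unusedSectionVars false

namespace Cfsg.Agent.TransLinTwo

open Module

namespace AF

variable {G X Y : Type*} [Group G] [Finite G] [AddCommGroup X] [Module (ZMod 2) X] [Finite X]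
  [AddCommGroup Y] [Module (ZMod 2) Y] [Finite Y] (A : AF G X Y)

/-- There is no antiflag transitive group with `e = 2 h`. -/
theorem twoStep_false {h : ℕ} (H : A.TwoStep h) : False := by
  obtain ⟨a, -, ha, -, -⟩ := A.big
  rcases A.growth H with ⟨D, hD, F, htop⟩ | hin
  · exact A.odd_false F hD ⊤ ⟨a, Submodule.mem_top, ha⟩ fun x _ hx => htop x hx
  have hblock : ∀ D, (∀ x : X, x ≠ 0 → ∀ i, D ≤ i → A.ball i x = A.ball D x) →
      ∀ x : X, x ≠ 0 → A.block x = A.ball D x := fun D hst x hx => by
    refine le_antisymm ?_ (A.ball_le_block D x)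
    rw [← hst x hx (max D (finrank (ZMod 2) X)) (le_max_left _ _)]
    exact A.ball_mono (le_max_right _ _) x
  rcases A.growth_block H hin (fun i x _ => A.dvd_finrank_ball H hin i x)
      (fun i y _ => A.dvd_finrank_lball H hin i y) with
    ⟨D, hD, F, hst⟩ | ⟨k, hk, F, hst, hlast⟩
  · rcases Nat.eq_or_lt_of_le hD with rfl | hD2
    · exact A.no_plane H hin ha (by rw [hblock 1 hst a ha, F.ball 1 a le_rfl ha])
    · refine A.odd_false F hD2 (A.block a) ⟨a, A.self_mem_block ha, ha⟩ fun x hx hx0 => ?_
      rw [← hblock D hst x hx0, A.block_eq ha hx0 hx]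
  · exact A.even_false F hk rfl hin fun x y hx hy hyx =>
      (hlast x y hx hy hyx).trans (hblock k hst x hx).symm

end AF

end Cfsg.Agent.TransLinTwo
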