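import Cfsg.Agent.Lib.Perm.TransLinTwo.Count

/-!
# The point-line geometry of an antiflag transitive group with `e = 2 h`

Points are classes, lines are the classes of functionals.  The maps `dn` and `up` send a subspace to
the sum of the flag subspaces of its members; both preserve sums, so the balls `hop^[i] (T x)` and
`hop^[i] (R y)` are subspaces whose dimensions form a concave sequence.
-/

set_option autoImplicit false
set_option linter.unusedSectionVars false

namespace Cfsg.Agent.TransLinTwo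

open Module

namespace AF

variable {G X Y : Type*} [Group G] [Finite G] [AddCommGroup X] [Module (ZMod 2) X] [Finite X]
  [AddCommGroup Y] [Module (ZMod 2) Y] [Finite Y] (A : AF G X Y)

/-- The hypotheses of the case `e = 2 h`. -/
structure TwoStep (h : ℕ) : Prop where
  pos : 1 ≤ h
  rankE : ∀ x : X, x ≠ 0 → finrank (ZMod 2) (A.E x) = 2 * h
  rankT : ∀ x : X, x ≠ 0 → finrank (ZMod 2) (A.T x) = h
  gen : ∀ x w : X, x ≠ 0 → w ∉ A.S x → A.E x ⊓ A.E w = ⊥
  pair : ∀ x u : X, x ≠ 0 → u ≠ 0 → u ∉ A.T x → A.E x ⊓ A.E u ≠ ⊥ →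
    finrank (ZMod 2) ↥(A.E x ⊓ A.E u) = h

/-- The functionals met by the members of a subspace. -/
def dn (U : Submodule (ZMod 2) X) : Submodule (ZMod 2) Y := ⨆ x ∈ U, A.E x

/-- The points met by the members of a subspace of functionals. -/
def up (U : Submodule (ZMod 2) Y) : Submodule (ZMod 2) X := A.swap.dn U

/-- One step in the geometry. -/
def hop (U : Submodule (ZMod 2) X) : Submodule (ZMod 2) X := A.up (A.dn U)

/-- Balls round a point. -/
def ball (i : ℕ) (x : X) : Submodule (ZMod 2) X := A.hop^[i] (A.T x)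

/-- Balls round a line. -/
def lball (i : ℕ) (y : Y) : Submodule (ZMod 2) X := A.hop^[i] (A.R y)

theorem E_zero : A.E (0 : X) = ⊥ := by
  refine (Submodule.eq_bot_iff _).2 fun y hy => A.sepY y fun z => hy z ?_
  exact fun w hw => absurd rfl hw.1

theorem E_add' (u v : X) : A.E (u + v) ≤ A.E u ⊔ A.E v := by
  rcases eq_or_ne u 0 with rfl | hu
  · rw [zero_add]; exact le_sup_right
  rcases eq_or_ne v 0 with rfl | hv
  · rw [add_zero]; exact le_sup_left
  exact A.E_add hu hv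

theorem E_le_dn {U : Submodule (ZMod 2) X} {x : X} (hx : x ∈ U) : A.E x ≤ A.dn U :=
  le_iSup₂_of_le x hx le_rfl

theorem R_le_up {U : Submodule (ZMod 2) Y} {y : Y} (hy : y ∈ U) : A.R y ≤ A.up U :=
  A.swap.E_le_dn hy

theorem dn_le_iff {U : Submodule (ZMod 2) X} {W : Submodule (ZMod 2) Y} :
    A.dn U ≤ W ↔ ∀ x ∈ U, A.E x ≤ W := iSup₂_le_iff

theorem up_le_iff {U : Submodule (ZMod 2) Y} {W : Submodule (ZMod 2) X} :
    A.up U ≤ W ↔ ∀ y ∈ U, A.R y ≤ W := iSup₂_le_iff

theorem dn_mono {U V : Submodule (ZMod 2) X} (h : U ≤ V) : A.dn U ≤ A.dn V :=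
  A.dn_le_iff.2 fun _ hx => A.E_le_dn (h hx)

theorem up_mono {U V : Submodule (ZMod 2) Y} (h : U ≤ V) : A.up U ≤ A.up V := A.swap.dn_mono h

theorem hop_mono {U V : Submodule (ZMod 2) X} (h : U ≤ V) : A.hop U ≤ A.hop V :=
  A.up_mono (A.dn_mono h)

theorem hop_mono_iter (i : ℕ) {U V : Submodule (ZMod 2) X} (h : U ≤ V) :
    A.hop^[i] U ≤ A.hop^[i] V := by
  induction i with
  | zero => exact h
  | succ i ih => rw [Function.iterate_succ_apply', Function.iterate_succ_apply']; exact A.hop_mono ih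

theorem dn_iSup {ι : Sort*} (U : ι → Submodule (ZMod 2) X) : A.dn (⨆ i, U i) = ⨆ i, A.dn (U i) := by
  refine le_antisymm (A.dn_le_iff.2 fun x hx => ?_) (iSup_le fun i => A.dn_mono (le_iSup U i))
  refine Submodule.iSup_induction U (motive := fun x => A.E x ≤ ⨆ i, A.dn (U i)) hx ?_ ?_ ?_
  · exact fun i z hz => (A.E_le_dn hz).trans (le_iSup (fun i => A.dn (U i)) i)
  · rw [A.E_zero]; exact bot_le
  · exact fun a b ha hb => (A.E_add' a b).trans (sup_le ha hb)

theorem up_iSup {ι : Sort*} (U : ι → Submodule (ZMod 2) Y) : A.up (⨆ i, U i) = ⨆ i, A.up (U i) :=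
  A.swap.dn_iSup U

theorem hop_iSup {ι : Sort*} (U : ι → Submodule (ZMod 2) X) :
    A.hop (⨆ i, U i) = ⨆ i, A.hop (U i) := by
  rw [hop, A.dn_iSup, A.up_iSup]; rfl

theorem hop_iSup_iter {ι : Sort*} (n : ℕ) (U : ι → Submodule (ZMod 2) X) :
    A.hop^[n] (⨆ i, U i) = ⨆ i, A.hop^[n] (U i) := by
  induction n with
  | zero => rfl
  | succ n ih => simp only [Function.iterate_succ_apply']; rw [ih, A.hop_iSup]

theorem dn_sup (U V : Submodule (ZMod 2) X) : A.dn (U ⊔ V) = A.dn U ⊔ A.dn V := by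
  rw [sup_eq_iSup, A.dn_iSup, iSup_bool_eq]; rfl

theorem up_sup (U V : Submodule (ZMod 2) Y) : A.up (U ⊔ V) = A.up U ⊔ A.up V := A.swap.dn_sup U V

theorem hop_sup (U V : Submodule (ZMod 2) X) : A.hop (U ⊔ V) = A.hop U ⊔ A.hop V := by
  rw [hop, A.dn_sup, A.up_sup]; rfl

theorem hop_sup_iter (n : ℕ) (U V : Submodule (ZMod 2) X) :
    A.hop^[n] (U ⊔ V) = A.hop^[n] U ⊔ A.hop^[n] V := by
  induction n with
  | zero => rfl
  | succ n ih => simp only [Function.iterate_succ_apply']; rw [ih, A.hop_sup]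

/-! ### Classes and flags -/

theorem dn_T {x : X} (hx : x ≠ 0) : A.dn (A.T x) = A.E x := by
  refine le_antisymm (A.dn_le_iff.2 fun u hu => ?_) (A.E_le_dn (A.self_mem_T hx))
  rcases eq_or_ne u 0 with rfl | hu0
  · rw [A.E_zero]; exact bot_le
  · rw [A.E_eq_of_mem_T hx hu hu0]

theorem up_T {y : Y} (hy : y ≠ 0) : A.up (A.swap.T y) = A.R y := A.swap.dn_T hy

theorem mem_R_self {x : X} (hx : x ≠ 0) {y : Y} (hy : y ≠ 0) (h : y ∈ A.E x) : x ∈ A.R y :=
  (A.mem_R_iff_mem_E hx hy).2 h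

theorem exists_flag {x : X} (hx : x ≠ 0) : ∃ y, y ≠ 0 ∧ y ∈ A.E x := by
  obtain ⟨y, hy⟩ := A.exists_I hx
  exact ⟨y, hy.2.1, (A.mem_E_iff hx).2 (Or.inr hy)⟩

theorem le_hop (U : Submodule (ZMod 2) X) : U ≤ A.hop U := by
  intro x hx
  rcases eq_or_ne x 0 with rfl | hx0
  · exact zero_mem _
  obtain ⟨y, hy, hyx⟩ := A.exists_flag hx0
  exact A.R_le_up (A.E_le_dn hx hyx) (A.mem_R_self hx0 hy hyx)

theorem iter_le_succ (U : Submodule (ZMod 2) X) (i : ℕ) : A.hop^[i] U ≤ A.hop^[i + 1] U := by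
  rw [Function.iterate_succ_apply']; exact A.le_hop _

theorem iter_mono (U : Submodule (ZMod 2) X) {i j : ℕ} (h : i ≤ j) : A.hop^[i] U ≤ A.hop^[j] U :=
  monotone_nat_of_le_succ (f := fun i => A.hop^[i] U) (A.iter_le_succ U) h

theorem ball_zero (x : X) : A.ball 0 x = A.T x := rfl

theorem ball_one {x : X} (hx : x ≠ 0) : A.ball 1 x = A.up (A.E x) := by
  simp only [ball, Function.iterate_one, hop, A.dn_T hx]

theorem ball_succ (i : ℕ) (x : X) : A.ball (i + 1) x = A.hop (A.ball i x) :=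
  Function.iterate_succ_apply' ..

theorem ball_mono {i j : ℕ} (h : i ≤ j) (x : X) : A.ball i x ≤ A.ball j x := A.iter_mono _ h

theorem lball_mono {i j : ℕ} (h : i ≤ j) (y : Y) : A.lball i y ≤ A.lball j y := A.iter_mono _ h

theorem self_mem_ball (i : ℕ) {x : X} (hx : x ≠ 0) : x ∈ A.ball i x :=
  A.ball_mono (Nat.zero_le i) x (A.self_mem_T hx)

theorem ball_of_mem_T (i : ℕ) {x u : X} (hx : x ≠ 0) (hu : u ∈ A.T x) (hu0 : u ≠ 0) :
    A.ball i u = A.ball i x := by
  rw [ball, ball, A.T_eq hx hu hu0]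

theorem R_le_ball_one {x : X} (hx : x ≠ 0) {y : Y} (hyx : y ∈ A.E x) : A.R y ≤ A.ball 1 x := by
  rw [A.ball_one hx]; exact A.R_le_up hyx

theorem ball_one_le_S {h : ℕ} (H : A.TwoStep h) {x : X} (hx : x ≠ 0) : A.ball 1 x ≤ A.S x := by
  rw [A.ball_one hx, A.up_le_iff]
  intro y hy u hu
  rcases eq_or_ne y 0 with rfl | hy0
  · rw [show A.R (0 : Y) = ⊥ from A.swap.E_zero, Submodule.mem_bot] at hu
    simp [hu]
  rcases eq_or_ne u 0 with rfl | hu0
  · exact zero_mem _
  by_contra hn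
  have hm : y ∈ A.E x ⊓ A.E u := ⟨hy, (A.mem_R_iff_mem_E hu0 hy0).1 hu⟩
  rw [H.gen x u hx hn, Submodule.mem_bot] at hm
  exact hy0 hm

/-- Equivariance. -/
theorem map_E (g : G) (x : X) : (A.E x).map (A.py g).toLinearMap = A.E (A.px g x) := by
  ext y
  rw [Submodule.mem_map]
  constructor
  · rintro ⟨w, hw, rfl⟩ z hz
    rw [← A.px_inv' g z] at hz ⊢
    rw [A.S_map] at hz
    change A.b _ (A.py g w) = 0
    rw [A.inv]
    exact hw _ hz
  · intro hy
    refine ⟨A.py g⁻¹ y, fun z hz => ?_, A.swap.px_inv' g y⟩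
    have := hy _ ((A.S_map (g := g)).2 hz)
    rwa [← A.swap.px_inv' g y, show A.swap.px g (A.swap.px g⁻¹ y) = A.py g (A.py g⁻¹ y) from rfl,
      A.inv] at this

theorem map_dn (g : G) (U : Submodule (ZMod 2) X) :
    (A.dn U).map (A.py g).toLinearMap = A.dn (U.map (A.px g).toLinearMap) := by
  refine le_antisymm ?_ ?_
  · rw [dn, Submodule.map_iSup]
    refine iSup_le fun x => ?_
    rw [Submodule.map_iSup]
    refine iSup_le fun hx => ?_
    rw [A.map_E]
    exact A.E_le_dn (Submodule.mem_map_of_mem hx)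
  · refine A.dn_le_iff.2 ?_
    rintro _ ⟨x, hx, rfl⟩
    rw [show (A.px g).toLinearMap x = A.px g x from rfl, ← A.map_E]
    exact Submodule.map_mono (A.E_le_dn hx)

theorem map_hop (g : G) (U : Submodule (ZMod 2) X) :
    (A.hop U).map (A.px g).toLinearMap = A.hop (U.map (A.px g).toLinearMap) := by
  rw [hop, hop, ← A.map_dn]
  exact A.swap.map_dn g _

theorem map_hop_iter (g : G) (i : ℕ) (U : Submodule (ZMod 2) X) :
    (A.hop^[i] U).map (A.px g).toLinearMap = A.hop^[i] (U.map (A.px g).toLinearMap) := by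
  induction i with
  | zero => rfl
  | succ i ih => simp only [Function.iterate_succ_apply']; rw [A.map_hop, ih]

theorem map_ball (g : G) (i : ℕ) {x : X} (hx : x ≠ 0) :
    (A.ball i x).map (A.px g).toLinearMap = A.ball i (A.px g x) := by
  rw [ball, A.map_hop_iter, A.T_map (g := g) hx]; rfl

theorem map_lball (g : G) (i : ℕ) (y : Y) :
    (A.lball i y).map (A.px g).toLinearMap = A.lball i (A.py g y) := by
  rw [lball, A.map_hop_iter, show (A.R y).map (A.px g).toLinearMap = A.R (A.py g y) from A.swap.map_E g y]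
  rfl

theorem finrank_ball_eq (i : ℕ) {x x' : X} (hx : x ≠ 0) (hx' : x' ≠ 0) :
    finrank (ZMod 2) (A.ball i x) = finrank (ZMod 2) (A.ball i x') := by
  obtain ⟨g, rfl⟩ := A.point_trans hx hx'
  rw [← A.map_ball g i hx, LinearEquiv.finrank_map_eq]

theorem finrank_lball_eq (i : ℕ) {y y' : Y} (hy : y ≠ 0) (hy' : y' ≠ 0) :
    finrank (ZMod 2) (A.lball i y) = finrank (ZMod 2) (A.lball i y') := by
  obtain ⟨g, rfl⟩ := A.swap.point_trans hy hy'
  rw [show A.swap.px g y = A.py g y from rfl, ← A.map_lball, LinearEquiv.finrank_map_eq]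

/-- The neighbourhood relation is symmetric in both variables at once. -/
theorem R_le_S_symm {x w : X} (hx : x ≠ 0) (hw : w ≠ 0)
    (h : A.ball 1 x ≤ A.S w) : A.ball 1 w ≤ A.S x := by
  rw [A.ball_one hw, A.up_le_iff]
  intro p hp
  rw [show A.R p = A.swap.E p from rfl]
  intro v hv
  refine A.mem_of_perp fun q hq => ?_
  rcases eq_or_ne p 0 with rfl | hp0
  · rw [A.swap.E_zero, Submodule.mem_bot] at hv
    simp [hv]
  rcases eq_or_ne q 0 with rfl | hq0
  · simp
  have h1 : p ∈ A.swap.S q := A.swap.mem_of_perp fun z hz => by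
    change A.b z p = 0
    exact hp z (h (A.R_le_ball_one hx hq hz))
  exact hv q (A.swap.S_symm hq0 h1)

end AF

end Cfsg.Agent.TransLinTwo
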