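import Cfsg.Agent.Lib.Perm.TransLinTwo.Hex.Cover

/-!
# The growth of the balls

The half steps of the growth never exceed `h` and never increase.  If some ball leaves `S x` they
are all `h` until the ball is everything; if none does and they are multiples of `h`, they are `h`
until they vanish.
-/

set_option autoImplicit false
set_option linter.unusedSectionVars false

namespace Cfsg.Agent.TransLinTwo

open Module

/-- Dimensions of balls round points and round lines. -/
structure GrowthSeq (h : ℕ) (a b : ℕ → ℕ) : Prop where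
  a_zero : a 0 = h
  b_zero : b 0 = 2 * h
  a_le_b : ∀ i, a i ≤ b i
  b_le_a : ∀ i, b i ≤ a (i + 1)
  concave_b : ∀ i, b (i + 1) + b i ≤ 2 * a (i + 1)
  concave_a : ∀ i, a (i + 1) + a i ≤ 2 * b i

namespace GrowthSeq

variable {h : ℕ} {a b : ℕ → ℕ} (S : GrowthSeq h a b)
include S

theorem step_le : ∀ i, b i ≤ a i + h ∧ a (i + 1) ≤ b i + h
  | 0 => by
    have := S.a_zero
    have := S.b_zero
    have := S.concave_a 0
    omega
  | i + 1 => by
    have := step_le i
    have := S.concave_b i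
    have := S.concave_a (i + 1)
    have := S.a_le_b i
    have := S.b_le_a i
    omega

theorem full_below : ∀ n, a n + 2 * h ≤ a (n + 1) →
    ∀ i, i ≤ n → b i = a i + h ∧ a (i + 1) = b i + h
  | 0, hn, i, hi => by
    obtain rfl : i = 0 := by omega
    have := S.step_le 0
    omega
  | n + 1, hn, i, hi => by
    rcases Nat.eq_or_lt_of_le hi with rfl | hlt
    · have := S.step_le (n + 1)
      omega
    · refine full_below n ?_ i (by omega)
      have := S.step_le (n + 1)
      have := S.step_le n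
      have := S.concave_b n
      have := S.concave_a n
      omega

theorem sizes {n : ℕ} (hn : ∀ i, i < n → b i = a i + h ∧ a (i + 1) = b i + h) :
    ∀ i, i ≤ n → a i = (2 * i + 1) * h ∧ (i < n → b i = (2 * i + 2) * h)
  | 0, _ => ⟨by rw [S.a_zero]; ring, fun _ => by rw [S.b_zero]⟩
  | i + 1, hi => by
    have h1 := sizes hn i (by omega)
    have h2 := hn i (by omega)
    have e1 : a (i + 1) = (2 * (i + 1) + 1) * h := by
      rw [h2.2, h1.2 (by omega)]; ring
    refine ⟨e1, fun hlt => ?_⟩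
    rw [(hn (i + 1) hlt).1, e1]; ring

theorem stable_b {D : ℕ} (hD : b D = a D) : ∀ j, a (D + j) = a D ∧ b (D + j) = a D
  | 0 => ⟨rfl, hD⟩
  | j + 1 => by
    have := stable_b hD j
    have := S.concave_a (D + j)
    have := S.concave_b (D + j)
    have := S.a_le_b (D + j)
    have := S.b_le_a (D + j)
    have := S.a_le_b (D + j + 1)
    rw [← add_assoc]
    omega

theorem stable_a {D : ℕ} (hD : a (D + 1) = b D) : ∀ j, a (D + 1 + j) = b D ∧ b (D + j) = b D
  | 0 => ⟨hD, rfl⟩
  | j + 1 => by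
    have h0 := stable_a hD j
    rw [show D + 1 + j = D + j + 1 by omega] at h0
    have := S.concave_b (D + j)
    have := S.concave_a (D + j + 1)
    have := S.a_le_b (D + j + 1)
    have := S.b_le_a (D + j + 1)
    rw [show D + 1 + (j + 1) = D + j + 1 + 1 by omega, ← add_assoc]
    omega

end GrowthSeq

namespace AF

variable {G X Y : Type*} [Group G] [Finite G] [AddCommGroup X] [Module (ZMod 2) X] [Finite X]
  [AddCommGroup Y] [Module (ZMod 2) Y] [Finite Y] (A : AF G X Y)

variable {h : ℕ} (H : A.TwoStep h)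
include H

theorem growthSeq {x : X} (hx : x ≠ 0) {y : Y} (hy : y ≠ 0) (hyx : y ∈ A.E x) :
    GrowthSeq h (fun i => finrank (ZMod 2) (A.ball i x))
      (fun i => finrank (ZMod 2) (A.lball i y)) where
  a_zero := H.rankT x hx
  b_zero := A.finrank_R H hy
  a_le_b i := Submodule.finrank_mono (A.ball_le_lball H i hx hy hyx)
  b_le_a i := Submodule.finrank_mono (A.lball_le_ball_succ H i hx hyx)
  concave_b i := A.lball_concave H i hx hy hy
  concave_a i := A.ball_concave H i hx hx hy

theorem full_of_seq {x : X} (hx : x ≠ 0) {y : Y} (hy : y ≠ 0) (hyx : y ∈ A.E x) {D n : ℕ}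
    (h2 : 2 ≤ n) (ha : ∀ i, 2 * i ≤ n → i ≤ D) (hb : ∀ i, 2 * i + 1 ≤ n → i ≤ D)
    (hs : ∀ i, i < D → finrank (ZMod 2) (A.lball i y) = finrank (ZMod 2) (A.ball i x) + h ∧
      finrank (ZMod 2) (A.ball (i + 1) x) = finrank (ZMod 2) (A.lball i y) + h)
    (hlast : 2 * D + 1 ≤ n → finrank (ZMod 2) (A.lball D y) = finrank (ZMod 2) (A.ball D x) + h) :
    A.Full h n := by
  have hsz := (A.growthSeq H hx hy hyx).sizes (n := D) hs
  refine ⟨H, h2, fun i z hi hz => ?_, fun i p hi hp => ?_⟩
  · rw [A.finrank_ball_eq i hz hx]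
    exact (hsz i (ha i hi)).1
  · rw [A.finrank_lball_eq i hp hy]
    rcases Nat.eq_or_lt_of_le (hb i hi) with rfl | hlt
    · rw [hlast hi, (hsz i le_rfl).1]; ring
    · exact (hsz i hlt.le).2 hlt

/-- Either every ball stays inside `S x`, or the balls grow by full steps up to the whole space. -/
theorem growth :
    (∃ D, 2 ≤ D ∧ A.Full h (2 * D) ∧ ∀ x : X, x ≠ 0 → A.ball D x = ⊤) ∨
      ∀ x : X, x ≠ 0 → ∀ i, A.ball i x ≤ A.S x := by
  classical
  by_cases hex : ∃ i, ∃ x : X, x ≠ 0 ∧ ¬ A.ball i x ≤ A.S x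
  swap
  · push Not at hex
    exact Or.inr fun x hx i => hex i x hx
  refine Or.inl ⟨Nat.find hex, ?_⟩
  obtain ⟨x₀, hx₀, hout⟩ := Nat.find_spec hex
  have hlow : ∀ i, i < Nat.find hex → ∀ x : X, x ≠ 0 → A.ball i x ≤ A.S x := fun i hi x hx =>
    by_contra fun hn => Nat.find_min hex hi ⟨x, hx, hn⟩
  set D := Nat.find hex with hD
  clear_value D
  have h2 : 2 ≤ D := by
    by_contra hn
    refine hout ?_
    interval_cases D
    · rw [A.ball_zero]; exact A.T_le_S hx₀
    · exact A.ball_one_le_S H hx₀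
  have htop : ∀ x : X, x ≠ 0 → A.ball D x = ⊤ := by
    intro x hx
    obtain ⟨g, rfl⟩ := A.point_trans hx₀ hx
    obtain ⟨w, hw, hwS⟩ := SetLike.not_le_iff_exists.1 hout
    have hz : A.px g w ∈ A.ball D (A.px g x₀) := by
      rw [← A.map_ball g D hx₀]
      exact Submodule.mem_map_of_mem hw
    have hzS : A.px g w ∉ A.S (A.px g x₀) := fun h => hwS (A.S_map.1 h)
    have hoff : ∀ z, z ∉ A.S (A.px g x₀) → z ∈ A.ball D (A.px g x₀) := by
      intro z hzn
      obtain ⟨k, hk, hkz⟩ := A.off_S_trans hzS hzn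
      have := Submodule.mem_map_of_mem (f := (A.px k).toLinearMap) hz
      rw [A.map_ball k D hx, hk] at this
      rw [← hkz]
      exact this
    refine eq_top_iff.2 fun z _ => ?_
    by_cases hzn : z ∈ A.S (A.px g x₀)
    · have hs := hoff (z + A.px g w) fun h => hzS ((Submodule.add_mem_iff_right _ hzn).1 h)
      exact (Submodule.add_mem_iff_left _ hz).1 hs
    · exact hoff z hzn
  obtain ⟨y, hy, hyx⟩ := A.exists_flag hx₀
  have hseq := A.growthSeq H hx₀ hy hyx
  have hbig : finrank (ZMod 2) (A.ball (D - 1) x₀) + 2 * h ≤ finrank (ZMod 2) (A.ball (D - 1 + 1) x₀) := by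
    rw [show D - 1 + 1 = D by omega, htop x₀ hx₀, finrank_top]
    have h1 := Submodule.finrank_mono (hlow (D - 1) (by omega) x₀ hx₀)
    have h3 := A.finrank_S_add_E x₀
    rw [H.rankE x₀ hx₀] at h3
    omega
  have hs := hseq.full_below (D - 1) hbig
  exact ⟨h2, A.full_of_seq H hx₀ hy hyx (D := D) (by omega) (fun i hi => by omega)
    (fun i hi => by omega) (fun i hi => hs i (by omega)) (fun hi => by omega), htop⟩

/-- A ball of radius one is more than a line. -/
theorem two_mul_lt_ball_one {x : X} (hx : x ≠ 0) : 2 * h < finrank (ZMod 2) (A.ball 1 x) := by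
  obtain ⟨y, hy, hyx⟩ := A.exists_flag hx
  obtain ⟨p, hpx, hp, hpT⟩ := A.exists_second_line H hx y hy
  by_contra hn
  push Not at hn
  have heq : ∀ q, q ≠ 0 → q ∈ A.E x → A.R q = A.ball 1 x := fun q hq hqx =>
    Submodule.eq_of_le_of_finrank_le (A.R_le_ball_one hx hqx) (by rw [A.finrank_R H hq]; exact hn)
  obtain ⟨u, hu, hu0, huT⟩ := A.exists_not_mem_T H hx hy
  have hup : u ∈ A.R p := by rw [heq p hp hpx, ← heq y hy hyx]; exact hu
  refine hpT ?_
  rw [A.swap_T_eq H hx hu0 huT hy hyx (A.mem_E_of_mem_R H hu0 hy hu)]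
  exact ⟨hpx, A.mem_E_of_mem_R H hu0 hp hup⟩

/-- If all balls stay inside `S x` and have dimensions divisible by `h`, they grow by full steps
until they stop at a point or at a line. -/
theorem growth_block (_hin : ∀ x : X, x ≠ 0 → ∀ i, A.ball i x ≤ A.S x)
    (hB : ∀ i (x : X), x ≠ 0 → h ∣ finrank (ZMod 2) (A.ball i x))
    (hL : ∀ i (y : Y), y ≠ 0 → h ∣ finrank (ZMod 2) (A.lball i y)) :
    (∃ D, 1 ≤ D ∧ A.Full h (2 * D) ∧ ∀ x : X, x ≠ 0 → ∀ i, D ≤ i → A.ball i x = A.ball D x) ∨
      ∃ k, 2 ≤ k ∧ A.Full h (2 * k - 1) ∧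
        (∀ x : X, x ≠ 0 → ∀ i, k ≤ i → A.ball i x = A.ball k x) ∧
        ∀ (x : X) (y : Y), x ≠ 0 → y ≠ 0 → y ∈ A.E x → A.lball (k - 1) y = A.ball k x := by
  classical
  obtain ⟨x₀, -, hx₀, -, -⟩ := A.big
  obtain ⟨y₀, hy₀, hyx₀⟩ := A.exists_flag hx₀
  have hseq := A.growthSeq H hx₀ hy₀ hyx₀
  set a : ℕ → ℕ := fun i => finrank (ZMod 2) (A.ball i x₀) with ha
  set b : ℕ → ℕ := fun i => finrank (ZMod 2) (A.lball i y₀) with hb
  have hpos := H.pos
  have hex : ∃ i, b i = a i ∨ a (i + 1) = b i := by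
    by_contra hn
    push Not at hn
    have hgrow : ∀ i, i ≤ a i := by
      intro i
      induction i with
      | zero => exact Nat.zero_le _
      | succ i ih =>
        have := hn i
        have := hseq.a_le_b i
        have := hseq.b_le_a i
        omega
    have h1 := hgrow (finrank (ZMod 2) X + 1)
    have h2 := Submodule.finrank_le (A.ball (finrank (ZMod 2) X + 1) x₀)
    simp only [ha] at h1
    omega
  have hexact : ∀ {u v : ℕ}, h ∣ u → h ∣ v → u ≤ v → v ≤ u + h → v ≠ u → v = u + h := by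
    intro u v hu hv huv hvu hne
    have h1 := Nat.le_of_dvd (by omega) (Nat.dvd_sub hv hu)
    omega
  have hs : ∀ i, i < Nat.find hex → b i = a i + h ∧ a (i + 1) = b i + h := by
    intro i hi
    have hm := Nat.find_min hex hi
    push Not at hm
    exact ⟨hexact (hB i x₀ hx₀) (hL i y₀ hy₀) (hseq.a_le_b i) (hseq.step_le i).1 hm.1,
      hexact (hL i y₀ hy₀) (hB (i + 1) x₀ hx₀) (hseq.b_le_a i) (hseq.step_le i).2 hm.2⟩
  have hfind := Nat.find_spec hex
  set D := Nat.find hex with hD
  clear_value D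
  have h1D : 1 ≤ D := by
    by_contra hn
    obtain rfl : D = 0 := by omega
    have h1 := A.two_mul_lt_ball_one H hx₀
    have h3 := hseq.a_zero
    have h4 := hseq.b_zero
    simp only [ha, hb, zero_add] at hfind h3 h4 h1
    omega
  by_cases hbD : b D = a D
  · refine Or.inl ⟨D, h1D, A.full_of_seq H hx₀ hy₀ hyx₀ (D := D) (by omega) (fun i hi => by omega)
      (fun i hi => by omega) hs (fun hi => by omega), fun x hx i hi => ?_⟩
    obtain ⟨j, rfl⟩ := Nat.exists_eq_add_of_le hi
    refine (Submodule.eq_of_le_of_finrank_le (A.ball_mono (Nat.le_add_right D j) x) ?_).symm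
    rw [A.finrank_ball_eq _ hx hx₀, A.finrank_ball_eq D hx hx₀]
    exact ((hseq.stable_b hbD j).1).le
  · have haD : a (D + 1) = b D := hfind.resolve_left hbD
    have hbD' : b D = a D + h :=
      hexact (hB D x₀ hx₀) (hL D y₀ hy₀) (hseq.a_le_b D) (hseq.step_le D).1 hbD
    refine Or.inr ⟨D + 1, by omega, A.full_of_seq H hx₀ hy₀ hyx₀ (D := D) (by omega)
      (fun i hi => by omega) (fun i hi => by omega) hs (fun _ => hbD'), fun x hx i hi => ?_,
      fun x y hx hy hyx => ?_⟩
    · obtain ⟨j, rfl⟩ := Nat.exists_eq_add_of_le hi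
      refine (Submodule.eq_of_le_of_finrank_le (A.ball_mono (Nat.le_add_right (D + 1) j) x) ?_).symm
      rw [A.finrank_ball_eq _ hx hx₀, A.finrank_ball_eq (D + 1) hx hx₀]
      exact ((hseq.stable_a haD j).1.trans haD.symm).le
    · rw [Nat.add_sub_cancel]
      refine Submodule.eq_of_le_of_finrank_le (A.lball_le_ball_succ H D hx hyx) ?_
      rw [A.finrank_lball_eq D hy hy₀, A.finrank_ball_eq (D + 1) hx hx₀]
      exact haD.le

end AF

end Cfsg.Agent.TransLinTwo
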