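import Cfsg.Agent.Lib.Perm.TransLinTwo.Hex.Block
import Cfsg.Agent.Lib.Perm.TransLinTwo.Hex.Growth

/-!
# The line of a point of another block

In a block of dimension `2 k h` which is a generalised `2 k`-gon, the neighbourhood of a point of a
non-orthogonal block is the ball of radius `k - 2` round exactly one line.
-/

set_option autoImplicit false
set_option linter.unusedSectionVars false
set_option linter.style.haveILetI false

namespace Cfsg.Agent.TransLinTwo

open Module

namespace AF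

variable {G X Y : Type*} [Group G] [Finite G] [AddCommGroup X] [Module (ZMod 2) X] [Finite X]
  [AddCommGroup Y] [Module (ZMod 2) Y] [Finite Y] (A : AF G X Y)

variable {h n : ℕ} (F : A.Full h n)
include F

/-- A point at the rim of a ball has a first neighbour outside the ball. -/
theorem rim (i : ℕ) (hi : 2 * (i + 1) + 1 ≤ n) {x v : X} (hx : x ≠ 0)
    (hv : v ∈ A.ball (i + 1) x) (hv' : v ∉ A.ball i x) :
    ∃ w ∈ A.ball 1 v, w ∉ A.ball (i + 1) x := by
  have H := F.two
  have hv0 : v ≠ 0 := fun e => hv' (e ▸ zero_mem _)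
  have hxv := A.ball_symm F (i + 1) (by omega) hx hv hv0
  have hxv' : x ∉ A.ball i v := fun hh => hv' (A.ball_symm F i (by omega) hv0 hh hx)
  obtain ⟨y, hyv, hy, hxy⟩ := A.ball_exists F i (by omega) hv0 hxv
  obtain ⟨p, hpv, hp, hpT⟩ := A.exists_second_line H hv0 y hy
  obtain ⟨w, hw, hw0, hwT⟩ := A.exists_not_mem_T H hv0 hp
  refine ⟨w, A.R_le_ball_one hv0 hpv hw, fun hwb => ?_⟩
  have hxp : x ∈ A.lball i p :=
    A.ball_inf F i hi hv0 hw0 hwT hp hpv (A.mem_E_of_mem_R H hw0 hp hw) ▸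
      ⟨hxv, A.ball_symm F (i + 1) (by omega) hx hwb hw0⟩
  exact hpT (A.line_unique F i (by omega) hv0 hxv' hy hp hyv hpv hxy hxp)

theorem ball_one_le_succ (i : ℕ) (hi : 2 * i ≤ n) {x v : X} (hx : x ≠ 0) (hv : v ∈ A.ball i x)
    (hv0 : v ≠ 0) : A.ball 1 v ≤ A.ball (i + 1) x := by
  rw [ball, Function.iterate_one, A.ball_succ]
  exact A.hop_mono (A.T_le_ball F i hi hx hv hv0)

/-- A smaller ball inside a larger one: the centres are close. -/
theorem ball_le_descend (i : ℕ) (hi : 2 * (i + 1) + 1 ≤ n) {x u : X} (hx : x ≠ 0) (hu : u ≠ 0)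
    (hle : A.ball i u ≤ A.ball (i + 1) x) : u ∈ A.ball 1 x := by
  induction i with
  | zero => exact hle (A.self_mem_ball 0 hu)
  | succ i ih =>
    refine ih (by omega) fun v hv => ?_
    by_contra hn
    have hv0 : v ≠ 0 := fun e => hn (e ▸ zero_mem _)
    have hvx : v ∈ A.ball (i + 1 + 1) x := hle (A.ball_mono (Nat.le_succ i) u hv)
    obtain ⟨w, hw, hw'⟩ := A.rim F (i + 1) hi hx hvx hn
    exact hw' (hle (A.ball_one_le_succ F i (by omega) hu hv hv0 hw))

/-- The neighbourhood of a ball is symmetric. -/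
theorem ball_le_S_symm (i : ℕ) (hi : 2 * i ≤ n) {x w : X} (hx : x ≠ 0) (hw : w ≠ 0)
    (hle : A.ball i x ≤ A.S w) : A.ball i w ≤ A.S x := by
  induction i generalizing x w with
  | zero =>
    intro z hz
    rcases eq_or_ne z 0 with rfl | hz0
    · exact zero_mem _
    have hzS := A.S_symm hw (hle (A.self_mem_T hx))
    rcases (A.mem_T hw).1 hz with rfl | hS
    · exact absurd rfl hz0
    · refine A.S_symm hz0 ?_
      rw [hS]
      exact hle (A.self_mem_T hx)
  | succ i ih =>
    intro z hz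
    rcases eq_or_ne z 0 with rfl | hz0
    · exact zero_mem _
    obtain ⟨v, hv, hv0, hzv⟩ := A.ball_step F i hi hw hz hz0
    refine ih (by omega) hx hv0 (fun u hu => ?_) hzv
    rcases eq_or_ne u 0 with rfl | hu0
    · exact zero_mem _
    refine A.S_symm hu0 ?_
    exact A.R_le_S_symm hu0 hw ((A.ball_one_le_succ F i (by omega) hx hu hu0).trans hle) hv

/-- Exactly one class of first neighbours of `v` is in the neighbourhood of a generic `w`. -/
theorem finrank_near {v w : X} (hv : v ≠ 0) (hw : w ∉ A.S v) :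
    finrank (ZMod 2) ↥(A.ball 1 v ⊓ A.S w) = h := by
  classical
  haveI : Fintype X := Fintype.ofFinite X
  have H := F.two
  have h2 := F.le
  have hpos := H.pos
  set d := finrank (ZMod 2) X with hd
  have hS : ∀ x : X, x ≠ 0 → finrank (ZMod 2) (A.S x) + 2 * h = d := fun x hx => by
    have := A.finrank_S_add_E x
    rw [H.rankE x hx] at this
    omega
  have hB : finrank (ZMod 2) (A.ball 1 v) = 3 * h := F.ball 1 v (by omega) hv
  have hge : ∀ z : X, z ∉ A.S v → h ≤ finrank (ZMod 2) ↥(A.ball 1 v ⊓ A.S z) := by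
    intro z hz
    have h1 := Submodule.finrank_sup_add_finrank_inf_eq (A.ball 1 v) (A.S z)
    have h3 := Submodule.finrank_le (A.ball 1 v ⊔ A.S z)
    have := hS z (A.ne_zero_of_not_mem hz)
    omega
  let K : Finset X := Finset.univ.filter fun u => u ∈ A.ball 1 v ∧ u ∉ A.T v
  let Gn : Finset X := Finset.univ.filter fun z => z ∉ A.S v
  have hfib : ∀ z ∈ Gn, (K.filter fun u => z ∈ A.S u).card =
      2 ^ finrank (ZMod 2) ↥(A.ball 1 v ⊓ A.S z) - 1 := by
    intro z hz
    simp only [Gn, Finset.mem_filter, Finset.mem_univ, true_and] at hz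
    have hz0 := A.ne_zero_of_not_mem hz
    rw [show (K.filter fun u => z ∈ A.S u) =
        (Finset.univ.filter fun u => u ∈ A.ball 1 v ⊓ A.S z).erase 0 by
      ext u
      simp only [K, Finset.mem_filter, Finset.mem_univ, true_and, Finset.mem_erase,
        Submodule.mem_inf]
      constructor
      · intro hu
        have hu0 : u ≠ 0 := fun e => hu.1.2 (e ▸ zero_mem _)
        exact ⟨hu0, hu.1.1, A.S_symm hu0 hu.2⟩
      · intro hu
        refine ⟨⟨hu.2.1, fun huT => hz ?_⟩, A.S_symm hz0 hu.2.2⟩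
        rcases (A.mem_T hv).1 huT with rfl | hSu
        · exact absurd rfl hu.1
        · rw [← hSu]; exact A.S_symm hz0 hu.2.2,
      Finset.card_erase_of_mem (by simp), card_filter_mem]
  have hcol : ∀ u ∈ K, (Gn.filter fun z => z ∈ A.S u).card = 2 ^ (d - 2 * h) - 2 ^ (d - 3 * h) := by
    intro u hu
    simp only [K, Finset.mem_filter, Finset.mem_univ, true_and] at hu
    have hu0 : u ≠ 0 := fun e => hu.2 (e ▸ zero_mem _)
    rw [show (Gn.filter fun z => z ∈ A.S u) = (Finset.univ.filter fun z => z ∈ A.S u) \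
        (Finset.univ.filter fun z => z ∈ A.S u ⊓ A.S v) by
        ext z
        simp only [Gn, Finset.mem_filter, Finset.mem_univ, true_and, Finset.mem_sdiff,
          Submodule.mem_inf]
        exact ⟨fun a => ⟨a.2, fun c => a.1 c.2⟩, fun a => ⟨fun c => a.2 ⟨a.1, c⟩, a.1⟩⟩,
      Finset.card_sdiff_of_subset (fun z hz => by
        simp only [Finset.mem_filter, Finset.mem_univ, true_and, Submodule.mem_inf] at hz ⊢
        exact hz.1), card_filter_mem, card_filter_mem]
    obtain ⟨y, hyv, hy, huy⟩ := A.ball_exists F 0 (by omega) hv hu.1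
    have hne : A.E v ⊓ A.E u ≠ ⊥ := fun e => hy (by
      have hm : y ∈ A.E v ⊓ A.E u := ⟨hyv, A.mem_E_of_mem_R H hu0 hy huy⟩
      rwa [e, Submodule.mem_bot] at hm)
    have hp := H.pair v u hv hu0 hu.2 hne
    have h3 := Submodule.finrank_sup_add_finrank_inf_eq (A.E v) (A.E u)
    rw [hp, H.rankE v hv, H.rankE u hu0] at h3
    have h4 := A.swap.finrank_add_perp (A.E v ⊔ A.E u)
    have h5 : A.swap.perp (A.E v ⊔ A.E u) = A.S u ⊓ A.S v := by
      apply le_antisymm
      · intro z hz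
        exact ⟨A.mem_of_perp fun q hq => hz q (Submodule.mem_sup_right hq),
          A.mem_of_perp fun q hq => hz q (Submodule.mem_sup_left hq)⟩
      · intro z hz y hy
        obtain ⟨a, ha, c, hc, rfl⟩ := Submodule.mem_sup.1 hy
        change A.b z (a + c) = 0
        rw [map_add, ha z hz.2, hc z hz.1, add_zero]
    rw [h5, A.finrank_dual_eq] at h4
    have := hS u hu0
    rw [show finrank (ZMod 2) (A.S u) = d - 2 * h by omega,
      show finrank (ZMod 2) ↥(A.S u ⊓ A.S v) = d - 3 * h by omega]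
  have hsum : ∑ u ∈ K, (Gn.filter fun z => z ∈ A.S u).card =
      ∑ z ∈ Gn, (K.filter fun u => z ∈ A.S u).card := by
    simp only [Finset.card_filter]
    exact Finset.sum_comm
  have hKc : K.card = 2 ^ (3 * h) - 2 ^ h := by
    rw [show K = (Finset.univ.filter fun u => u ∈ A.ball 1 v) \
        (Finset.univ.filter fun u => u ∈ A.T v) by ext u; simp [K],
      Finset.card_sdiff_of_subset (fun z hz => by
        simp only [Finset.mem_filter, Finset.mem_univ, true_and] at hz ⊢
        exact A.ball_mono (Nat.zero_le 1) v hz), card_filter_mem, card_filter_mem, hB, H.rankT v hv]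
  have hGc : Gn.card = 2 ^ d - 2 ^ (d - 2 * h) := by
    rw [show Gn = Finset.univ \ (Finset.univ.filter fun u => u ∈ A.S v) by ext u; simp [Gn],
      Finset.card_sdiff_of_subset (Finset.subset_univ _), card_filter_mem, Finset.card_univ,
      ← Nat.card_eq_fintype_card, Module.natCard_eq_pow_finrank (K := ZMod 2), Nat.card_zmod]
    have := hS v hv
    rw [show finrank (ZMod 2) (A.S v) = d - 2 * h by omega]
  rw [Finset.sum_congr rfl hcol, Finset.sum_congr rfl hfib, Finset.sum_const, smul_eq_mul, hKc]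
    at hsum
  by_contra hne
  have hwG : w ∈ Gn := by simp [Gn, hw]
  have hlt : ∑ z ∈ Gn, (2 ^ h - 1) <
      ∑ z ∈ Gn, (2 ^ finrank (ZMod 2) ↥(A.ball 1 v ⊓ A.S z) - 1) := by
    refine Finset.sum_lt_sum (fun z hz => Nat.sub_le_sub_right
      (Nat.pow_le_pow_right two_pos (hge z (by simpa [Gn] using hz))) 1) ⟨w, hwG, ?_⟩
    have h3 := Nat.pow_lt_pow_right (one_lt_two) (lt_of_le_of_ne (hge w hw) (Ne.symm hne))
    have := Nat.one_le_two_pow (n := h)
    omega
  rw [Finset.sum_const, smul_eq_mul, hGc, ← hsum] at hlt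
  refine hlt.ne ?_
  obtain ⟨m, hm⟩ : ∃ m, d = m + 3 * h := ⟨d - 3 * h, by
    have := Submodule.finrank_le (A.ball 1 v)
    omega⟩
  rw [hm, show m + 3 * h - 2 * h = m + h by omega, show m + 3 * h - 3 * h = m by omega,
    pow_add, pow_add, show 3 * h = 2 * h + h by omega, pow_add]
  zify [Nat.one_le_two_pow (n := h), Nat.le_mul_of_pos_left (2 ^ h) (Nat.two_pow_pos (2 * h)),
    Nat.le_mul_of_pos_right (2 ^ m) (Nat.two_pow_pos h),
    Nat.mul_le_mul_left (2 ^ m) (Nat.le_mul_of_pos_left (2 ^ h) (Nat.two_pow_pos (2 * h)))]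
  ring

omit F in
theorem near_unique (F : A.Full h n) {v w u u' : X} (hv : v ≠ 0) (hw : w ∉ A.S v) (hu : u ≠ 0)
    (h1 : u ∈ A.ball 1 v) (h2 : u' ∈ A.ball 1 v) (h3 : u ∈ A.S w) (h4 : u' ∈ A.S w) :
    u' ∈ A.T u := by
  have hle : A.T u ≤ A.ball 1 v ⊓ A.S w := by
    refine le_inf (A.T_le_ball F 1 (by have := F.le; omega) hv h1 hu) fun z hz => ?_
    rcases (A.mem_T hu).1 hz with rfl | hS
    · exact zero_mem _
    rcases eq_or_ne z 0 with rfl | hz0
    · exact zero_mem _
    · exact A.S_symm hz0 (hS ▸ A.S_symm (A.ne_zero_of_not_mem hw) h3)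
  rw [Submodule.eq_of_le_of_finrank_le hle (by rw [A.finrank_near F hv hw, F.two.rankT u hu])]
  exact ⟨h2, h4⟩

omit F in
theorem dn_iter (i : ℕ) (U : Submodule (ZMod 2) X) :
    A.dn (A.hop^[i] U) = A.swap.hop^[i] (A.dn U) := by
  induction i with
  | zero => rfl
  | succ i ih => rw [Function.iterate_succ_apply', Function.iterate_succ_apply', ← ih]; rfl

theorem finrank_dn_ball_le (i : ℕ) {w : X} (hw : w ≠ 0) :
    finrank (ZMod 2) (A.dn (A.ball i w)) ≤ (2 * i + 2) * h := by
  have hs := A.swap_twoStep F.two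
  rw [ball, A.dn_iter, A.dn_T hw]
  obtain ⟨y, hy, hyw⟩ := A.exists_flag hw
  have hseq := A.swap.growthSeq hs hy hw (A.mem_R_self hw hy hyw)
  have hb : ∀ i, finrank (ZMod 2) (A.swap.lball i w) ≤ (2 * i + 2) * h := by
    intro i
    induction i with
    | zero => exact le_of_eq hseq.b_zero
    | succ i ih =>
      have h1 := (hseq.step_le (i + 1)).1
      have h2 := (hseq.step_le i).2
      nlinarith
  exact hb i

/-- The rim-free neighbourhood is a ball round one line. -/
theorem line_exists {k : ℕ} (hk : 2 ≤ k) (hn : n = 2 * k - 1)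
    (hin : ∀ x : X, x ≠ 0 → ∀ i, A.ball i x ≤ A.S x)
    (hlast : ∀ (x : X) (y : Y), x ≠ 0 → y ≠ 0 → y ∈ A.E x → A.lball (k - 1) y = A.block x)
    {a b : X} (ha : a ≠ 0) (hb : b ≠ 0) (hd : Disjoint (A.block b) (A.blockZ a)) {w : X}
    (hw : w ∈ A.block b) (hw0 : w ≠ 0) :
    ∃ p, p ≠ 0 ∧ A.R p ≤ A.block a ∧ A.lball (k - 2) p = A.block a ⊓ A.S w ∧
      ∀ u ∈ A.block a, u ≠ 0 → (u ∈ A.R p ↔ A.ball (k - 2) u ≤ A.S w) := by
  have H := F.two
  obtain ⟨j, rfl⟩ : ∃ j, k = j + 2 := ⟨k - 2, by omega⟩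
  rw [show j + 2 - 1 = j + 1 by omega] at hlast
  rw [Nat.add_sub_cancel]
  have hd' := A.disjoint_symm H hin ha hb hd
  have hsup := A.block_sup_blockZ H hin hb ha hd'
  have hZS : A.blockZ b ≤ A.S w := fun z hz => A.mem_blockZ.1 hz w hw hw0
  have hg : finrank (ZMod 2) (A.block a) = (2 * (j + 1) + 2) * h := by
    obtain ⟨y, hy, hya⟩ := A.exists_flag ha
    rw [← hlast a y ha hy hya]
    exact F.lball (j + 1) y (by omega) hy
  have hA : finrank (ZMod 2) ↥(A.block a ⊓ A.S w) = (2 * j + 2) * h := by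
    have h1 := Submodule.finrank_sup_add_finrank_inf_eq (A.block a) (A.S w)
    have htop : A.block a ⊔ A.S w = ⊤ := top_le_iff.1 (hsup ▸ sup_le_sup_left hZS _)
    rw [htop, finrank_top, hg] at h1
    have h2 := A.finrank_S_add_E w
    rw [H.rankE w hw0] at h2
    nlinarith
  -- a point whose ball lies in the neighbourhood
  obtain ⟨u, hu, hu0, hule⟩ : ∃ u ∈ A.block a, u ≠ 0 ∧ A.ball j u ≤ A.S w := by
    let P := A.swap.perp (A.dn (A.ball j w))
    have hne : A.block a ⊓ P ≠ ⊥ := fun e => by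
      have h1 := Submodule.finrank_sup_add_finrank_inf_eq (A.block a) P
      rw [e, finrank_bot, hg] at h1
      have h2 := Submodule.finrank_le (A.block a ⊔ P)
      have h3 := A.swap.finrank_add_perp (A.dn (A.ball j w))
      rw [A.finrank_dual_eq] at h3
      have h4 := A.finrank_dn_ball_le F j hw0
      have h5 := H.pos
      simp only [P] at h1
      nlinarith
    obtain ⟨u, hu, hu0⟩ := Submodule.exists_mem_ne_zero_of_ne_bot hne
    refine ⟨u, hu.1, hu0, A.ball_le_S_symm F j (by omega) hw0 hu0 fun z hz => ?_⟩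
    rcases eq_or_ne z 0 with rfl | hz0
    · exact zero_mem _
    exact A.S_symm hz0 (A.mem_of_perp fun q hq => hu.2 q (A.E_le_dn hz hq))
  have hblk : ∀ x ∈ A.block a, x ≠ 0 → ∀ i, A.ball i x ≤ A.block a := fun x hx hx0 i =>
    (A.ball_le_block i x).trans (A.block_eq ha hx0 hx).le
  -- the neighbourhood stays in the next ball
  have hnext : ∀ x ∈ A.block a, x ≠ 0 → A.ball j x ≤ A.S w →
      A.block a ⊓ A.S w ≤ A.ball (j + 1) x := by
    intro x hx hx0 hxle
    by_contra hnle
    obtain ⟨z, hz, hzn⟩ := SetLike.not_le_iff_exists.1 hnle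
    have hz0 : z ≠ 0 := fun e => hzn (e ▸ zero_mem _)
    obtain ⟨y, hy, hyz⟩ := A.exists_flag hz0
    have hx' : x ∈ A.lball (j + 1) y := by
      rw [hlast z y hz0 hy hyz, A.block_eq ha hz0 hz.1]
      exact hx
    obtain ⟨v, hvy, hv0, hxv⟩ := A.lball_exists F (j + 1) (by omega) hy hx' hx0
    have hzv : z ∈ A.ball 1 v :=
      A.R_le_ball_one hv0 (A.mem_E_of_mem_R H hv0 hy hvy) (A.mem_R_self hz0 hy hyz)
    have hvz : v ∈ A.ball 1 z := A.R_le_ball_one hz0 hyz hvy
    have hvx := A.ball_symm F (j + 1) (by omega) hv0 hxv hx0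
    by_cases hvS : v ∈ A.S w
    · have hle : A.ball j x ⊔ A.T v ≤ A.block a ⊓ A.S w := by
        refine sup_le (le_inf (hblk x hx hx0 j) hxle) (le_inf ?_ ?_)
        · exact A.T_le_block (hblk z hz.1 hz0 1 hvz)
        · intro q hq
          rcases (A.mem_T hv0).1 hq with rfl | hS
          · exact zero_mem _
          rcases eq_or_ne q 0 with rfl | hq0
          · exact zero_mem _
          · exact A.S_symm hq0 (hS ▸ A.S_symm hw0 hvS)
      have hvj : v ∉ A.ball j x := fun hh => hzn (A.ball_one_le_succ F j (by omega) hx0 hh hv0 hzv)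
      have hbot : A.ball j x ⊓ A.T v = ⊥ := (Submodule.eq_bot_iff _).2 fun q hq => by_contra fun hq0 =>
        hvj (A.T_le_ball F j (by omega) hx0 hq.1 hq0 (A.T_eq hv0 hq.2 hq0 ▸ A.self_mem_T hv0))
      have h1 := Submodule.finrank_sup_add_finrank_inf_eq (A.ball j x) (A.T v)
      rw [hbot, finrank_bot, F.ball j x (by omega) hx0, H.rankT v hv0] at h1
      have heq := Submodule.eq_of_le_of_finrank_le hle (by rw [hA]; nlinarith)
      exact hzn (sup_le (A.ball_mono (Nat.le_succ j) x)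
        (A.T_le_ball F (j + 1) (by omega) hx0 hvx hv0) (heq.symm.le hz))
    · obtain ⟨v₁, hv₁, hv₁0, hxv₁⟩ := A.ball_step F j (by omega) hv0 hxv hx0
      have hv₁x : v₁ ∈ A.ball j x := A.ball_symm F j (by omega) hv₁0 hxv₁ hx0
      have hwv : w ∉ A.S v := fun hh => hvS (A.S_symm hv0 hh)
      have := A.near_unique F hv0 hwv hv₁0 hv₁ hzv (hxle hv₁x) hz.2
      exact hzn (A.ball_mono (Nat.le_succ j) x (A.T_le_ball F j (by omega) hx0 hv₁x hv₁0 this))
  -- the line
  have hAu := hnext u hu hu0 hule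
  obtain ⟨z, hz, hzn⟩ : ∃ z ∈ A.block a ⊓ A.S w, z ∉ A.ball j u := by
    refine SetLike.not_le_iff_exists.1 fun hle => ?_
    have := Submodule.finrank_mono hle
    rw [hA, F.ball j u (by omega) hu0] at this
    have := H.pos
    nlinarith
  have hz0 : z ≠ 0 := fun e => hzn (e ▸ zero_mem _)
  obtain ⟨p, hpu, hp, hzp⟩ := A.ball_exists F j (by omega) hu0 (hAu hz)
  have hTz : A.T z ≤ A.block a ⊓ A.S w := le_inf (A.T_le_block hz.1) fun q hq => by
    rcases (A.mem_T hz0).1 hq with rfl | hS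
    · exact zero_mem _
    rcases eq_or_ne q 0 with rfl | hq0
    · exact zero_mem _
    · exact A.S_symm hq0 (hS ▸ A.S_symm hw0 hz.2)
  have hAeq : A.lball j p = A.block a ⊓ A.S w := by
    have hTzp : A.T z ≤ A.lball j p := by
      obtain ⟨v, hv, hv0, hzv⟩ := A.lball_exists F j (by omega) hp hzp hz0
      exact (A.T_le_ball F j (by omega) hv0 hzv hz0).trans
        (A.ball_le_lball H j hv0 hp (A.mem_E_of_mem_R H hv0 hp hv))
    have hbot : A.ball j u ⊓ A.T z = ⊥ := (Submodule.eq_bot_iff _).2 fun q hq => by_contra fun hq0 =>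
      hzn (A.T_le_ball F j (by omega) hu0 hq.1 hq0 (A.T_eq hz0 hq.2 hq0 ▸ A.self_mem_T hz0))
    have h1 := Submodule.finrank_sup_add_finrank_inf_eq (A.ball j u) (A.T z)
    rw [hbot, finrank_bot, F.ball j u (by omega) hu0, H.rankT z hz0] at h1
    have e1 : A.ball j u ⊔ A.T z = A.lball j p := Submodule.eq_of_le_of_finrank_le
      (sup_le (A.ball_le_lball H j hu0 hp hpu) hTzp) (by rw [F.lball j p (by omega) hp]; nlinarith)
    have e2 : A.ball j u ⊔ A.T z = A.block a ⊓ A.S w := Submodule.eq_of_le_of_finrank_le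
      (sup_le (le_inf (hblk u hu hu0 j) hule) hTz) (by rw [hA]; nlinarith)
    rw [← e1, e2]
  have hRp : A.R p ≤ A.block a := (A.R_le_ball_one hu0 hpu).trans (hblk u hu hu0 1)
  refine ⟨p, hp, hRp, hAeq, fun x hx hx0 => ⟨fun hxp => ?_, fun hxle => ?_⟩⟩
  · exact (A.ball_le_lball H j hx0 hp (A.mem_E_of_mem_R H hx0 hp hxp)).trans (hAeq.le.trans inf_le_right)
  · by_contra hxp
    have hclose : ∀ v ∈ A.R p, v ≠ 0 → x ∈ A.ball 1 v := fun v hv hv0 => by
      refine A.ball_le_descend F j (by omega) hv0 hx0 ?_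
      exact (le_inf (hblk x hx hx0 j) hxle).trans (hnext v (hRp hv) hv0
        ((A.ball_le_lball H j hv0 hp (A.mem_E_of_mem_R H hv0 hp hv)).trans
          (hAeq.le.trans inf_le_right)))
    obtain ⟨v, hv, hv0, hvT⟩ := A.exists_not_mem_T H hu0 hp
    have hup := A.mem_R_self hu0 hp hpu
    have hxl : x ∈ A.lball 0 p :=
      A.ball_inf F 0 (by omega) hu0 hv0 hvT hp hpu (A.mem_E_of_mem_R H hv0 hp hv) ▸
        ⟨hclose u hup hu0, hclose v hv hv0⟩
    exact hxp hxl

end AF

end Cfsg.Agent.TransLinTwo
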