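import Cfsg.Agent.Lib.Perm.TransLinTwo.Hex.Geo

/-!
# Lines and the growth of the balls

In the case `e = 2 h` the hypotheses are self-dual, a line is the sum of any two of its points, and
the dimensions of the balls round points and lines form a concave sequence starting with `h, 2 h`.
-/

set_option autoImplicit false
set_option linter.unusedSectionVars false

namespace Cfsg.Agent.TransLinTwo

open Module

namespace AF

variable {G X Y : Type*} [Group G] [Finite G] [AddCommGroup X] [Module (ZMod 2) X] [Finite X]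
  [AddCommGroup Y] [Module (ZMod 2) Y] [Finite Y] (A : AF G X Y)

theorem dn_swap (U : Submodule (ZMod 2) Y) : A.swap.dn U = A.up U := rfl

theorem up_swap (U : Submodule (ZMod 2) X) : A.swap.up U = A.dn U := rfl

theorem T_le_self {x : X} (hx : x ≠ 0) {y : Y} (hy : y ≠ 0) (hyx : y ∈ A.E x) : A.T x ≤ A.R y :=
  A.T_le_R hx hy hyx

variable {h : ℕ} (H : A.TwoStep h)
include H

theorem finrank_R {y : Y} (hy : y ≠ 0) : finrank (ZMod 2) (A.R y) = 2 * h := by
  obtain ⟨x, hx⟩ := A.swap.exists_I hy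
  rw [A.finrank_R_eq_E hx.2.1 hy, H.rankE x hx.2.1]

theorem exists_not_mem_T {x : X} (hx : x ≠ 0) {y : Y} (hy : y ≠ 0) :
    ∃ u ∈ A.R y, u ≠ 0 ∧ u ∉ A.T x := by
  obtain ⟨u, hu, hu'⟩ := SetLike.not_le_iff_exists.1 (show ¬ A.R y ≤ A.T x from fun hle => by
    have := Submodule.finrank_mono hle
    rw [A.finrank_R H hy, H.rankT x hx] at this
    have := H.pos
    omega)
  exact ⟨u, hu, fun e => hu' (e ▸ zero_mem _), hu'⟩

theorem T_disjoint {x u : X} (hx : x ≠ 0) (hu : u ≠ 0) (huT : u ∉ A.T x) : A.T x ⊓ A.T u = ⊥ := by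
  refine (Submodule.eq_bot_iff _).2 fun z hz => by_contra fun hz0 => huT ?_
  rw [← A.T_eq hx hz.1 hz0, A.T_eq hu hz.2 hz0]
  exact A.self_mem_T hu

/-- A line is spanned by two of its points. -/
theorem R_eq_sup {x u : X} (hx : x ≠ 0) (hu : u ≠ 0) (huT : u ∉ A.T x) {y : Y} (hy : y ≠ 0)
    (hyx : y ∈ A.E x) (hyu : y ∈ A.E u) : A.R y = A.T x ⊔ A.T u := by
  symm
  refine Submodule.eq_of_le_of_finrank_le (sup_le (A.T_le_R hx hy hyx) (A.T_le_R hu hy hyu)) ?_
  have h1 := Submodule.finrank_sup_add_finrank_inf_eq (A.T x) (A.T u)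
  rw [A.T_disjoint H hx hu huT, finrank_bot, H.rankT x hx, H.rankT u hu] at h1
  rw [A.finrank_R H hy]
  omega

theorem mem_E_of_mem_R {x : X} (hx : x ≠ 0) {y : Y} (hy : y ≠ 0) (h' : x ∈ A.R y) : y ∈ A.E x :=
  (A.mem_R_iff_mem_E hx hy).1 h'

/-- The class of a line is the common part of the functionals of two of its points. -/
theorem swap_T_eq {x u : X} (hx : x ≠ 0) (hu : u ≠ 0) (huT : u ∉ A.T x) {y : Y} (hy : y ≠ 0)
    (hyx : y ∈ A.E x) (hyu : y ∈ A.E u) : A.swap.T y = A.E x ⊓ A.E u := by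
  ext p
  rcases eq_or_ne p 0 with rfl | hp
  · simp
  constructor
  · intro hp'
    have hR : A.R p = A.R y := A.swap.E_eq_of_mem_T hy hp' hp
    exact ⟨A.mem_E_of_mem_R H hx hp (hR ▸ A.mem_R_self hx hy hyx),
      A.mem_E_of_mem_R H hu hp (hR ▸ A.mem_R_self hu hy hyu)⟩
  · intro hp'
    refine Or.inr ⟨hy, ?_⟩
    have hR : A.R p = A.R y :=
      (A.R_eq_sup H hx hu huT hp hp'.1 hp'.2).trans (A.R_eq_sup H hx hu huT hy hyx hyu).symm
    ext q
    constructor <;> intro hq <;> refine A.swap.mem_of_perp fun z hz => ?_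
    · rw [show A.swap.perp (A.swap.S y) = A.R y from rfl, ← hR] at hz
      exact hz q hq
    · rw [show A.swap.perp (A.swap.S p) = A.R p from rfl, hR] at hz
      exact hz q hq

theorem finrank_swap_T {y : Y} (hy : y ≠ 0) : finrank (ZMod 2) (A.swap.T y) = h := by
  obtain ⟨x, hx⟩ := A.swap.exists_I hy
  have hx0 : x ≠ 0 := hx.2.1
  obtain ⟨u, hu, hu0, huT⟩ := A.exists_not_mem_T H hx0 hy
  have hyx : y ∈ A.E x := (A.mem_E_iff hx0).2 (Or.inr (A.swap_I.1 hx))
  have hyu := A.mem_E_of_mem_R H hu0 hy hu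
  rw [A.swap_T_eq H hx0 hu0 huT hy hyx hyu]
  refine H.pair x u hx0 hu0 huT fun hb => hy ?_
  have hm : y ∈ A.E x ⊓ A.E u := ⟨hyx, hyu⟩
  rwa [hb, Submodule.mem_bot] at hm

/-- Two lines at a point make the functionals of the point. -/
theorem E_eq_sup {x : X} (hx : x ≠ 0) {y p : Y} (hy : y ≠ 0) (hp : p ≠ 0) (hyx : y ∈ A.E x)
    (hpx : p ∈ A.E x) (hpT : p ∉ A.swap.T y) : A.E x = A.swap.T y ⊔ A.swap.T p := by
  symm
  have hxy : x ∈ A.swap.E y := A.mem_R_self hx hy hyx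
  have hxp : x ∈ A.swap.E p := A.mem_R_self hx hp hpx
  refine Submodule.eq_of_le_of_finrank_le
    (sup_le (A.swap.T_le_R hy hx hxy) (A.swap.T_le_R hp hx hxp)) ?_
  have h0 : A.swap.T y ⊓ A.swap.T p = ⊥ := by
    refine (Submodule.eq_bot_iff _).2 fun z hz => by_contra fun hz0 => hpT ?_
    rw [← A.swap.T_eq hy hz.1 hz0, A.swap.T_eq hp hz.2 hz0]
    exact A.swap.self_mem_T hp
  have h1 := Submodule.finrank_sup_add_finrank_inf_eq (A.swap.T y) (A.swap.T p)
  rw [h0, finrank_bot, A.finrank_swap_T H hy, A.finrank_swap_T H hp] at h1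
  rw [H.rankE x hx]
  omega

theorem swap_twoStep : A.swap.TwoStep h where
  pos := H.pos
  rankE y hy := A.finrank_R H hy
  rankT y hy := A.finrank_swap_T H hy
  gen y p hy hp := by
    refine (Submodule.eq_bot_iff _).2 fun x hx => by_contra fun hx0 => hp ?_
    have hp0 : p ≠ 0 := fun e => hp (e ▸ zero_mem _)
    refine A.swap.mem_of_perp fun u hu => ?_
    exact A.mem_E_of_mem_R H hx0 hp0 hx.2 u
      (A.ball_one_le_S H hx0 (A.R_le_ball_one hx0 (A.mem_E_of_mem_R H hx0 hy hx.1) hu))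
  pair y p hy hp hpT hne := by
    obtain ⟨x, hx, hx0⟩ := (Submodule.ne_bot_iff _).1 hne
    have hyx := A.mem_E_of_mem_R H hx0 hy hx.1
    have hpx := A.mem_E_of_mem_R H hx0 hp hx.2
    have he : A.swap.E y ⊓ A.swap.E p = A.T x := by
      refine le_antisymm (fun u hu => ?_) (le_inf (A.T_le_R hx0 hy hyx) (A.T_le_R hx0 hp hpx))
      by_contra huT
      have hu0 : u ≠ 0 := fun e => huT (e ▸ zero_mem _)
      refine hpT ?_
      rw [A.swap_T_eq H hx0 hu0 huT hy hyx (A.mem_E_of_mem_R H hu0 hy hu.1)]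
      exact ⟨hpx, A.mem_E_of_mem_R H hu0 hp hu.2⟩
    rw [he, H.rankT x hx0]

/-! ### The two recursions -/

theorem lball_eq_sup (i : ℕ) {x u : X} (hx : x ≠ 0) (hu : u ≠ 0) (huT : u ∉ A.T x) {y : Y}
    (hy : y ≠ 0) (hyx : y ∈ A.E x) (hyu : y ∈ A.E u) :
    A.lball i y = A.ball i x ⊔ A.ball i u := by
  rw [lball, A.R_eq_sup H hx hu huT hy hyx hyu, A.hop_sup_iter]; rfl

theorem ball_succ_eq_sup (i : ℕ) {x : X} (hx : x ≠ 0) {y p : Y} (hy : y ≠ 0) (hp : p ≠ 0)
    (hyx : y ∈ A.E x) (hpx : p ∈ A.E x) (hpT : p ∉ A.swap.T y) :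
    A.ball (i + 1) x = A.lball i y ⊔ A.lball i p := by
  rw [ball, Function.iterate_succ_apply, hop, A.dn_T hx, A.E_eq_sup H hx hy hp hyx hpx hpT,
    A.up_sup, A.hop_sup_iter, A.up_T hy, A.up_T hp]
  rfl

theorem ball_le_lball (i : ℕ) {x : X} (hx : x ≠ 0) {y : Y} (hy : y ≠ 0) (hyx : y ∈ A.E x) :
    A.ball i x ≤ A.lball i y := A.hop_mono_iter i (A.T_le_R hx hy hyx)

theorem lball_le_ball_succ (i : ℕ) {x : X} (hx : x ≠ 0) {y : Y} (hyx : y ∈ A.E x) :
    A.lball i y ≤ A.ball (i + 1) x := by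
  rw [ball, Function.iterate_succ_apply]
  refine A.hop_mono_iter i ?_
  have h1 := A.R_le_ball_one hx hyx
  simpa only [ball, Function.iterate_one] using h1

theorem exists_second_line {x : X} (hx : x ≠ 0) (y : Y) (hy : y ≠ 0) :
    ∃ p ∈ A.E x, p ≠ 0 ∧ p ∉ A.swap.T y :=
  A.swap.exists_not_mem_T (A.swap_twoStep H) hy hx

/-- The growth of the balls is concave: the step through a line. -/
theorem lball_concave (i : ℕ) {x : X} (hx : x ≠ 0) {y y' : Y} (hy : y ≠ 0)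
    (hy' : y' ≠ 0) :
    finrank (ZMod 2) (A.lball (i + 1) y) + finrank (ZMod 2) (A.lball i y') ≤
      2 * finrank (ZMod 2) (A.ball (i + 1) x) := by
  obtain ⟨a, ha⟩ := A.swap.exists_I hy
  have ha0 : a ≠ 0 := ha.2.1
  have hya : y ∈ A.E a := (A.mem_E_iff ha0).2 (Or.inr (A.swap_I.1 ha))
  obtain ⟨u, hu, hu0, huT⟩ := A.exists_not_mem_T H ha0 hy
  have hyu := A.mem_E_of_mem_R H hu0 hy hu
  have h1 := Submodule.finrank_sup_add_finrank_inf_eq (A.ball (i + 1) a) (A.ball (i + 1) u)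
  rw [← A.lball_eq_sup H (i + 1) ha0 hu0 huT hy hya hyu] at h1
  have h2 : A.lball i y ≤ A.ball (i + 1) a ⊓ A.ball (i + 1) u :=
    le_inf (A.lball_le_ball_succ H i ha0 hya) (A.lball_le_ball_succ H i hu0 hyu)
  have h3 := Submodule.finrank_mono h2
  rw [A.finrank_ball_eq (i + 1) ha0 hx, A.finrank_ball_eq (i + 1) hu0 hx] at h1
  rw [A.finrank_lball_eq i hy hy'] at h3
  omega

/-- The growth of the balls is concave: the step through a point. -/
theorem ball_concave (i : ℕ) {x x' : X} (hx : x ≠ 0) (hx' : x' ≠ 0) {y : Y} (hy : y ≠ 0) :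
    finrank (ZMod 2) (A.ball (i + 1) x) + finrank (ZMod 2) (A.ball i x') ≤
      2 * finrank (ZMod 2) (A.lball i y) := by
  obtain ⟨z, hz, hzx⟩ := A.exists_flag hx
  obtain ⟨p, hpx, hp, hpT⟩ := A.exists_second_line H hx z hz
  have h1 := Submodule.finrank_sup_add_finrank_inf_eq (A.lball i z) (A.lball i p)
  rw [← A.ball_succ_eq_sup H i hx hz hp hzx hpx hpT] at h1
  have h2 : A.ball i x ≤ A.lball i z ⊓ A.lball i p :=
    le_inf (A.ball_le_lball H i hx hz hzx) (A.ball_le_lball H i hx hp hpx)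
  have h3 := Submodule.finrank_mono h2
  rw [A.finrank_lball_eq i hz hy, A.finrank_lball_eq i hp hy] at h1
  rw [A.finrank_ball_eq i hx hx'] at h3
  omega

end AF

end Cfsg.Agent.TransLinTwo
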