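import Cfsg.Agent.Lib.Perm.TransLinTwo.Hex.Block
import Cfsg.Agent.Lib.Perm.TransLinTwo.Hex.Cover

/-!
# A third block on two blocks

A block in the sum of two non-perpendicular blocks is the graph of a bijection between them which
preserves all balls.
-/

set_option autoImplicit false
set_option linter.unusedSectionVars false

namespace Cfsg.Agent.TransLinTwo

open Module

namespace AF

variable {G X Y : Type*} [Group G] [Finite G] [AddCommGroup X] [Module (ZMod 2) X] [Finite X]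
  [AddCommGroup Y] [Module (ZMod 2) Y] [Finite Y] (A : AF G X Y)

theorem S_symm_iff {u v : X} (hu : u ≠ 0) (hv : v ≠ 0) : v ∈ A.S u ↔ u ∈ A.S v :=
  ⟨fun h => A.S_symm hu h, fun h => A.S_symm hv h⟩

theorem perp_E_sup (u v : X) : A.swap.perp (A.E u ⊔ A.E v) = A.S u ⊓ A.S v := by
  ext z
  constructor
  · intro hz
    exact ⟨A.mem_of_perp fun y hy => hz y (Submodule.mem_sup_left hy),
      A.mem_of_perp fun y hy => hz y (Submodule.mem_sup_right hy)⟩
  · intro hz y hy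
    obtain ⟨p, hp, r, hr, rfl⟩ := Submodule.mem_sup.1 hy
    change A.b z (p + r) = 0
    rw [map_add, hp z hz.1, hr z hz.2, add_zero]

theorem add_twice (u v : X) : u + v + v = u := by
  rw [add_assoc, ZModModule.add_self, add_zero]

variable {h n : ℕ} (F : A.Full h n) (hin : ∀ x : X, x ≠ 0 → ∀ i, A.ball i x ≤ A.S x)
include F

theorem T_iff_sup {x u : X} (hx : x ≠ 0) (hu : u ≠ 0) :
    u ∈ A.T x ↔ finrank (ZMod 2) ↥(A.E x ⊔ A.E u) = 2 * h := by
  constructor
  · intro hux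
    rw [A.E_eq_of_mem_T hx hux hu, sup_idem, F.two.rankE x hx]
  · intro hd
    have h1 : A.E x = A.E x ⊔ A.E u :=
      Submodule.eq_of_le_of_finrank_eq le_sup_left (by rw [hd, F.two.rankE x hx])
    have h2 : A.E u = A.E x ⊔ A.E u :=
      Submodule.eq_of_le_of_finrank_eq le_sup_right (by rw [hd, F.two.rankE u hu])
    have he : A.E u = A.E x := h2.trans h1.symm
    refine Or.inr ⟨hx, ?_⟩
    ext z
    constructor <;> intro hz <;> refine A.mem_of_perp fun y hy => ?_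
    · rw [← A.E_eq_perp, ← he] at hy
      exact hy z hz
    · rw [← A.E_eq_perp, he] at hy
      exact hy z hz

theorem ball_one_iff_sup {x u : X} (hx : x ≠ 0) (hu : u ≠ 0) :
    u ∈ A.ball 1 x ↔ finrank (ZMod 2) ↥(A.E x ⊔ A.E u) < 4 * h := by
  have h1 := Submodule.finrank_sup_add_finrank_inf_eq (A.E x) (A.E u)
  rw [F.two.rankE x hx, F.two.rankE u hu] at h1
  constructor
  · intro hux
    obtain ⟨y, hyx, hy, huy⟩ := A.ball_exists F 0 (by have := F.le; omega) hx hux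
    have hne : A.E x ⊓ A.E u ≠ ⊥ := fun e => hy <| (Submodule.mem_bot _).1
      (e ▸ (Submodule.mem_inf.2 ⟨hyx, A.mem_E_of_mem_R F.two hu hy huy⟩))
    have h2 := Submodule.one_le_finrank_iff.2 hne
    omega
  · intro hlt
    obtain ⟨y, hy, hy0⟩ := (Submodule.ne_bot_iff _).1
      (show A.E x ⊓ A.E u ≠ ⊥ from fun e => by rw [e, finrank_bot] at h1; omega)
    exact A.R_le_ball_one hx hy.1 (A.mem_R_self hu hy0 hy.2)

include hin

theorem mem_block_of_ball {a x u : X} (ha : a ≠ 0) (hx : x ∈ A.block a) (hx0 : x ≠ 0) {i : ℕ}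
    (hu : u ∈ A.ball i x) : u ∈ A.block a :=
  A.block_eq ha hx0 hx ▸ A.ball_le_block i x hu

/-- Seen from a non-perpendicular block, the sum of two spaces of functionals. -/
theorem finrank_inf_block {a w w₁ w₂ : X} (ha : a ≠ 0) (hw : w ≠ 0)
    (hd : Disjoint (A.block w) (A.blockZ a)) (h₁ : w₁ ∈ A.block w) (h₁0 : w₁ ≠ 0)
    (h₂ : w₂ ∈ A.block w) (h₂0 : w₂ ≠ 0) :
    finrank (ZMod 2) ↥((A.S w₁ ⊓ A.S w₂) ⊓ A.block a) + finrank (ZMod 2) ↥(A.E w₁ ⊔ A.E w₂) =
      finrank (ZMod 2) (A.block a) := by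
  have hd' := A.disjoint_symm F.two hin ha hw hd
  have hZ : A.blockZ w ≤ A.S w₁ ⊓ A.S w₂ := fun z hz =>
    ⟨A.mem_blockZ.1 hz w₁ h₁ h₁0, A.mem_blockZ.1 hz w₂ h₂ h₂0⟩
  have htop : A.S w₁ ⊓ A.S w₂ ⊔ A.block a = ⊤ := by
    rw [eq_top_iff, ← A.block_sup_blockZ F.two hin hw ha hd']
    exact sup_le le_sup_right (hZ.trans le_sup_left)
  have h1 := Submodule.finrank_sup_add_finrank_inf_eq (A.S w₁ ⊓ A.S w₂) (A.block a)
  rw [htop, finrank_top] at h1
  have h2 := A.swap.finrank_add_perp (A.E w₁ ⊔ A.E w₂)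
  rw [A.perp_E_sup, A.finrank_dual_eq] at h2
  omega

/-- A map of blocks preserving classes and neighbours preserves balls. -/
theorem ball_transfer {a b : X} (ha : a ≠ 0)
    (φ : A.block a ≃ₗ[ZMod 2] A.block b)
    (h0 : ∀ x u : A.block a, x ≠ 0 → (u : X) ∈ A.T x → (φ u : X) ∈ A.T (φ x))
    (h1 : ∀ x u : A.block a, x ≠ 0 → (u : X) ∈ A.ball 1 x → (φ u : X) ∈ A.ball 1 (φ x))
    (i : ℕ) : ∀ x u : A.block a, x ≠ 0 → (u : X) ∈ A.ball i x → (φ u : X) ∈ A.ball i (φ x) := by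
  induction i with
  | zero => exact h0
  | succ i ih =>
    intro x u hx hu
    have hxX : (x : X) ≠ 0 := fun e => hx (Subtype.ext e)
    let J := {v : X // v ∈ A.ball i (x : X) ∧ v ≠ 0}
    have hle : A.ball i (x : X) ≤ ⨆ v : J, A.T v.1 := fun v hv => by
      rcases eq_or_ne v 0 with rfl | hv0
      · exact zero_mem _
      · exact Submodule.mem_iSup_of_mem (⟨v, hv, hv0⟩ : J) (A.self_mem_T hv0)
    have hu' : (u : X) ∈ ⨆ v : J, A.hop (A.T v.1) := by
      rw [A.ball_succ] at hu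
      rw [← A.hop_iSup]
      exact A.hop_mono hle hu
    suffices ∃ hq : (u : X) ∈ A.block a, (φ ⟨u, hq⟩ : X) ∈ A.ball (i + 1) (φ x) by
      obtain ⟨_, hq⟩ := this
      exact hq
    refine Submodule.iSup_induction (fun v : J => A.hop (A.T v.1))
      (motive := fun q => ∃ hq : q ∈ A.block a, (φ ⟨q, hq⟩ : X) ∈ A.ball (i + 1) (φ x)) hu' ?_ ?_ ?_
    · rintro ⟨v, hv, hv0⟩ q hq
      have hva : v ∈ A.block a := A.mem_block_of_ball F hin ha x.2 hxX hv
      have hq1 : q ∈ A.ball 1 v := by rw [ball, Function.iterate_one]; exact hq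
      refine ⟨A.mem_block_of_ball F hin ha hva hv0 hq1, ?_⟩
      have h2 := h1 ⟨v, hva⟩ ⟨q, A.mem_block_of_ball F hin ha hva hv0 hq1⟩
        (fun e => hv0 (congrArg Subtype.val e)) hq1
      rw [ball, Function.iterate_one] at h2
      rw [A.ball_succ]
      exact A.hop_mono (A.classClosed_ball F.two hin i _ _ (ih x ⟨v, hva⟩ hx hv)) h2
    · exact ⟨zero_mem _, by
        rw [show (⟨0, zero_mem _⟩ : A.block a) = 0 from rfl, map_zero]; exact zero_mem _⟩
    · rintro p r ⟨hp, hp'⟩ ⟨hr, hr'⟩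
      exact ⟨add_mem hp hr, by
        rw [show (⟨p + r, add_mem hp hr⟩ : A.block a) = ⟨p, hp⟩ + ⟨r, hr⟩ from rfl, map_add]
        exact add_mem hp' hr'⟩

/-- The third block on two non-perpendicular blocks. -/
theorem third {a b : X} (ha : a ≠ 0) (hb : b ≠ 0) (hd : Disjoint (A.block b) (A.blockZ a))
    {x₀ x₀' : X} (hx₀ : x₀ ∈ A.block a) (hx₀0 : x₀ ≠ 0) (hx₀' : x₀' ∈ A.block b)
    (hx₀'0 : x₀' ≠ 0) :
    ∃ φ : A.block a ≃ₗ[ZMod 2] A.block b,
      (∀ x : A.block a, x ≠ 0 → (x : X) + (φ x : X) ∈ A.block (x₀ + x₀')) ∧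
      (φ ⟨x₀, hx₀⟩ : X) = x₀' ∧
      (∀ x x' : A.block a, x ≠ 0 → x' ≠ 0 →
        ((x' : X) ∈ A.S (φ x : X) ↔ (x : X) ∈ A.S (φ x' : X))) ∧
      (∀ i (x u : A.block a), x ≠ 0 →
        ((u : X) ∈ A.ball i (x : X) ↔ (φ u : X) ∈ A.ball i (φ x : X))) := by
  have hd' := A.disjoint_symm F.two hin ha hb hd
  have haZ := A.block_le_blockZ hin ha
  have hbZ := A.block_le_blockZ hin hb
  have hza : x₀ + x₀' ∉ A.blockZ a := fun h' => hx₀'0
    (Submodule.disjoint_def.1 hd x₀' hx₀' ((Submodule.add_mem_iff_right _ (haZ hx₀)).1 h'))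
  have hzb : x₀ + x₀' ∉ A.blockZ b := fun h' => hx₀0
    (Submodule.disjoint_def.1 hd' x₀ hx₀ ((Submodule.add_mem_iff_left _ (hbZ hx₀')).1 h'))
  have hz0 : x₀ + x₀' ≠ 0 := fun e => hza (e ▸ zero_mem _)
  set C := A.block (x₀ + x₀') with hC
  have hCa : Disjoint C (A.blockZ a) := A.disjoint_of_not_mem F.two hin ha hza
  have hCb : Disjoint C (A.blockZ b) := A.disjoint_of_not_mem F.two hin hb hzb
  have hCsum : C ≤ A.block a ⊔ A.block b :=
    A.block_le_sum F.two hin ha hb hd hz0 (Submodule.add_mem_sup hx₀ hx₀')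
  have hCb0 : C ⊓ A.block b = ⊥ := disjoint_iff.1 (hCb.mono_right hbZ)
  have hsup : C ⊔ A.block b = A.block a ⊔ A.block b := by
    refine Submodule.eq_of_le_of_finrank_le (sup_le hCsum le_sup_right) ?_
    have h1 := Submodule.finrank_sup_add_finrank_inf_eq C (A.block b)
    have h2 := Submodule.finrank_add_le_finrank_add_finrank (A.block a) (A.block b)
    have h3 : finrank (ZMod 2) C = finrank (ZMod 2) (A.block a) := A.finrank_block_eq hz0 ha
    rw [hCb0, finrank_bot] at h1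
    omega
  have hex : ∀ x : A.block a, ∃ y : A.block b, (x : X) + y ∈ C := by
    intro x
    obtain ⟨p, hp, r, hr, e⟩ := Submodule.mem_sup.1
      (show (x : X) ∈ C ⊔ A.block b from hsup ▸ Submodule.mem_sup_left x.2)
    exact ⟨⟨r, hr⟩, by rw [← e, add_twice]; exact hp⟩
  have huniq : ∀ (x : X) (y y' : A.block b), x + y ∈ C → x + y' ∈ C → y = y' := by
    intro x y y' hy hy'
    have h1 : ((y - y' : A.block b) : X) ∈ C ⊓ A.block b :=
      ⟨by simpa using sub_mem hy hy', (y - y').2⟩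
    rw [hCb0, Submodule.mem_bot, ZeroMemClass.coe_eq_zero, sub_eq_zero] at h1
    exact h1
  choose f hf using hex
  let φ₀ : A.block a →ₗ[ZMod 2] A.block b :=
    (AddMonoidHom.mk' f fun x x' => huniq ((x + x' : A.block a) : X) _ _ (hf _) (by
      have := add_mem (hf x) (hf x')
      simpa [add_add_add_comm] using this)).toZModLinearMap 2
  have hinj : Function.Injective φ₀ := by
    rw [← LinearMap.ker_eq_bot, LinearMap.ker_eq_bot']
    intro x hx
    have h1 := hf x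
    rw [show f x = 0 from hx, ZeroMemClass.coe_zero, add_zero] at h1
    exact Subtype.ext (Submodule.disjoint_def.1 (hCa.mono_right haZ) _ h1 x.2)
  let φ := LinearEquiv.ofBijective φ₀ ⟨hinj,
    (LinearMap.injective_iff_surjective_of_finrank_eq_finrank (A.finrank_block_eq ha hb)).1 hinj⟩
  have hφ : ∀ x : A.block a, (x : X) + (φ x : X) ∈ C := hf
  have hnz : ∀ x : A.block a, x ≠ 0 → (x : X) ≠ 0 ∧ (φ x : X) ≠ 0 ∧ (x : X) + (φ x : X) ≠ 0 := by
    intro x hx
    have hxX : (x : X) ≠ 0 := fun e => hx (Subtype.ext e)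
    refine ⟨hxX, fun e => hx (φ.map_eq_zero_iff.1 (Subtype.ext e)), fun e => hxX ?_⟩
    refine Submodule.disjoint_def.1 hd' _ x.2 (hbZ ?_)
    rw [eq_neg_of_add_eq_zero_left e]
    exact neg_mem (φ x).2
  -- the neighbours in one block of a point of another
  have side : ∀ {c x y : X}, c ≠ 0 → x ∈ A.block c → y ≠ 0 → x + y ≠ 0 →
      ∀ p ∈ A.block c, (p ∈ A.S (x + y) ↔ p ∈ A.S y) := by
    intro c x y hc hx hy hxy p hp
    rcases eq_or_ne p 0 with rfl | hp0
    · simp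
    rw [A.S_symm_iff hxy hp0, A.S_symm_iff hy hp0]
    exact Submodule.add_mem_iff_right _ (A.block_le_S hin hc hp0 hp hx)
  have hE : ∀ x u : A.block a, x ≠ 0 → u ≠ 0 →
      finrank (ZMod 2) ↥(A.E (x : X) ⊔ A.E (u : X)) =
        finrank (ZMod 2) ↥(A.E (φ x : X) ⊔ A.E (φ u : X)) := by
    intro x u hx hu
    obtain ⟨hx0, hφx0, hzx0⟩ := hnz x hx
    obtain ⟨hu0, hφu0, hzu0⟩ := hnz u hu
    have ea : (A.S ((x : X) + φ x) ⊓ A.S ((u : X) + φ u)) ⊓ A.block a =
        (A.S (φ x : X) ⊓ A.S (φ u : X)) ⊓ A.block a := by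
      ext p
      exact and_congr_left fun hp => and_congr (side ha x.2 hφx0 hzx0 p hp)
        (side ha u.2 hφu0 hzu0 p hp)
    have eb : (A.S ((x : X) + φ x) ⊓ A.S ((u : X) + φ u)) ⊓ A.block b =
        (A.S (x : X) ⊓ A.S (u : X)) ⊓ A.block b := by
      rw [add_comm (x : X), add_comm (u : X)] at *
      ext p
      exact and_congr_left fun hp => and_congr (side hb (φ x).2 hx0 hzx0 p hp)
        (side hb (φ u).2 hu0 hzu0 p hp)
    have h1 := A.finrank_inf_block F hin ha hz0 hCa (hφ x) hzx0 (hφ u) hzu0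
    have h2 := A.finrank_inf_block F hin ha hb hd (φ x).2 hφx0 (φ u).2 hφu0
    have h3 := A.finrank_inf_block F hin hb hz0 hCb (hφ x) hzx0 (hφ u) hzu0
    have h4 := A.finrank_inf_block F hin hb ha hd' x.2 hx0 u.2 hu0
    rw [ea] at h1
    rw [eb] at h3
    omega
  refine ⟨φ, fun x _ => hφ x, (congrArg Subtype.val
    (huniq x₀ (φ (⟨x₀, hx₀⟩ : A.block a)) ⟨x₀', hx₀'⟩ (hφ ⟨x₀, hx₀⟩) (A.self_mem_block hz0)) :), ?_, ?_⟩
  · intro x x' hx hx'
    obtain ⟨hx0, hφx0, hzx0⟩ := hnz x hx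
    obtain ⟨hx'0, hφx'0, -⟩ := hnz x' hx'
    have hsame : (x' : X) + φ x' ∈ A.S ((x : X) + φ x) :=
      A.block_le_S hin hz0 hzx0 (hφ x) (hφ x')
    calc (x' : X) ∈ A.S (φ x : X) ↔ (x' : X) ∈ A.S ((x : X) + φ x) :=
          (side ha x.2 hφx0 hzx0 _ x'.2).symm
      _ ↔ (φ x' : X) ∈ A.S ((x : X) + φ x) :=
          ⟨fun h' => (Submodule.add_mem_iff_right _ h').1 hsame,
            fun h' => (Submodule.add_mem_iff_left _ h').1 hsame⟩
      _ ↔ (x : X) + φ x ∈ A.S (φ x' : X) := A.S_symm_iff hzx0 hφx'0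
      _ ↔ (x : X) ∈ A.S (φ x' : X) :=
          Submodule.add_mem_iff_left _ (A.block_le_S hin hb hφx'0 (φ x').2 (φ x).2)
  have htr : ∀ x u : A.block a, x ≠ 0 →
      ((u : X) ∈ A.T x ↔ (φ u : X) ∈ A.T (φ x)) ∧
      ((u : X) ∈ A.ball 1 x ↔ (φ u : X) ∈ A.ball 1 (φ x)) := by
    intro x u hx
    obtain ⟨hx0, hφx0, -⟩ := hnz x hx
    rcases eq_or_ne u 0 with rfl | hu
    · simp
    obtain ⟨hu0, hφu0, -⟩ := hnz u hu
    rw [A.T_iff_sup F hx0 hu0, A.T_iff_sup F hφx0 hφu0, A.ball_one_iff_sup F hx0 hu0,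
      A.ball_one_iff_sup F hφx0 hφu0, hE x u hx hu]
    exact ⟨Iff.rfl, Iff.rfl⟩
  intro i x u hx
  constructor
  · exact A.ball_transfer F hin ha φ (fun x u hx => (htr x u hx).1.1)
      (fun x u hx => (htr x u hx).2.1) i x u hx
  · intro hu
    have key : ∀ y : A.block b, y ≠ 0 → φ.symm y ≠ 0 := fun y hy e => hy (φ.symm.map_eq_zero_iff.1 e)
    have h1 := A.ball_transfer F hin hb φ.symm
      (fun y v hy hv => (htr (φ.symm y) (φ.symm v) (key y hy)).1.2 (by simpa using hv))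
      (fun y v hy hv => (htr (φ.symm y) (φ.symm v) (key y hy)).2.2 (by simpa using hv))
      i (φ x) (φ u) (fun e => hx (φ.map_eq_zero_iff.1 e)) hu
    simpa using h1

end AF

end Cfsg.Agent.TransLinTwo
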