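import Cfsg.Agent.Lib.Perm.TransLinTwo.Hex.Classes
import Cfsg.Agent.Lib.Perm.TransLinTwo.PolygonKill

/-!
# The odd case

If the balls grow by full steps up to a common space of dimension `(2 D + 1) h`, the incidence of
classes is that of a generalised polygon with an odd parameter, which does not exist.
-/

set_option autoImplicit false
set_option linter.unusedSectionVars false
set_option linter.unusedSimpArgs false
set_option linter.style.haveILetI false

namespace Cfsg.Agent.TransLinTwo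

open Module

namespace AF

variable {G X Y : Type*} [Group G] [Finite G] [AddCommGroup X] [Module (ZMod 2) X] [Finite X]
  [AddCommGroup Y] [Module (ZMod 2) Y] [Finite Y] (A : AF G X Y)

variable {h n : ℕ} (F : A.Full h n)
include F

theorem card_classesIn_ball (i : ℕ) (hi : 2 * i ≤ n) {x : X} (hx : x ≠ 0) :
    (A.classesIn (A.ball i x)).card = ∑ j ∈ Finset.range (2 * i + 1), (2 ^ h) ^ j :=
  A.card_classesIn F.two (fun _ hz hz0 => A.T_le_ball F i hi hx hz hz0) (F.ball i x hi hx)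

theorem card_classesIn_R {y : Y} (hy : y ≠ 0) : (A.classesIn (A.R y)).card = 2 ^ h + 1 := by
  have hh : ∀ v ∈ A.R y, v ≠ 0 → A.T v ≤ A.R y := fun v hv hv0 =>
    A.T_le_R hv0 hy (A.mem_E_of_mem_R F.two hv0 hy hv)
  rw [A.card_classesIn F.two hh (A.finrank_R F.two hy)]
  simp [Finset.sum_range_succ, add_comm]

open Classical in
/-- The number of first neighbours (with the point itself) whose ball contains a given point. -/
theorem count_first (i : ℕ) (hi : 1 ≤ i) (hin : 2 * (i + 1) ≤ n) {x z : X} (hx : x ≠ 0)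
    (hz : z ≠ 0) :
    (((A.classesIn (A.ball 1 x)).filter fun W => A.T z ≤ A.hop^[i] W).card : ℤ) =
      (if A.T z ≤ A.ball (i + 1) x then 1 else 0) + (2 ^ h : ℤ) * (if A.T z ≤ A.ball i x then 1 else 0)
        + (2 ^ h : ℤ) ^ 2 * (if A.T z ≤ A.ball (i - 1) x then 1 else 0) := by
  obtain ⟨j, rfl⟩ : ∃ j, i = j + 1 := ⟨i - 1, by omega⟩
  rw [Nat.add_sub_cancel]
  have H := F.two
  have hmem : ∀ m, 2 * m ≤ n → ∀ a, a ≠ 0 → (A.T z ≤ A.ball m a ↔ z ∈ A.ball m a) := fun m hm a ha =>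
    ⟨fun hle => hle (A.self_mem_T hz), fun hza => A.T_le_ball F m hm ha hza hz⟩
  by_cases h0 : z ∈ A.ball j x
  · -- all first neighbours
    have h1 : A.T z ≤ A.ball j x := (hmem j (by omega) x hx).2 h0
    rw [Finset.filter_true_of_mem, A.card_classesIn_ball F 1 (by omega) hx, if_pos h1,
      if_pos (h1.trans (A.ball_mono (by omega) x)), if_pos (h1.trans (A.ball_mono (by omega) x))]
    · simp [Finset.sum_range_succ]
    intro W hW
    obtain ⟨w, hw, hw0, rfl⟩ := A.mem_classesIn.1 hW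
    refine h1.trans ?_
    rw [Function.iterate_succ_apply]
    refine A.hop_mono_iter j ?_
    have h2 := A.T_le_ball F 1 (by omega) hw0 (A.ball_one_symm F hx hw hw0) hx
    simpa only [ball, Function.iterate_one] using h2
  rw [if_neg (show ¬ A.T z ≤ A.ball j x from fun hle => h0 (hle (A.self_mem_T hz))), mul_zero,
    add_zero]
  by_cases h1 : z ∈ A.ball (j + 1) x
  · -- the classes of one line
    have h1' : A.T z ≤ A.ball (j + 1) x := (hmem _ (by omega) x hx).2 h1
    rw [if_pos h1', if_pos (h1'.trans (A.ball_mono (by omega) x)), mul_one]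
    obtain ⟨y, hyx, hy, hzy⟩ := A.ball_exists F j (by omega) hx h1
    rw [show ((A.classesIn (A.ball 1 x)).filter fun W => A.T z ≤ A.hop^[j + 1] W) =
        A.classesIn (A.R y) from ?_, A.card_classesIn_R F hy]
    · push_cast; ring
    ext W
    rw [Finset.mem_filter]
    constructor
    · rintro ⟨hW, hzW⟩
      obtain ⟨w, hw, hw0, rfl⟩ := A.mem_classesIn.1 hW
      obtain ⟨p, hpx, hp, hwp⟩ := A.ball_exists F 0 (by omega) hx hw
      have hpw := A.mem_E_of_mem_R H hw0 hp hwp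
      refine A.mem_classesIn.2 ⟨w, ?_, hw0, rfl⟩
      by_cases hwT : w ∈ A.T x
      · exact A.T_le_R hx hy hyx hwT
      have hzp : z ∈ A.lball j p :=
        A.ball_inf F j (by omega) hx hw0 hwT hp hpx hpw ▸ ⟨h1, hzW (A.self_mem_T hz)⟩
      have hpy := A.line_unique F j (by omega) hx h0 hy hp hyx hpx hzy hzp
      rw [show A.R y = A.R p from (A.swap.E_eq_of_mem_T hy hpy hp).symm]
      exact hwp
    · intro hW
      obtain ⟨w, hw, hw0, rfl⟩ := A.mem_classesIn.1 hW
      have hyw := A.mem_E_of_mem_R H hw0 hy hw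
      refine ⟨A.T_mem_classesIn (A.R_le_ball_one hx hyx hw) hw0, ?_⟩
      exact (hmem (j + 1) (by omega) w hw0).2 (A.lball_le_ball_succ H j hw0 hyw hzy)
  rw [if_neg (show ¬ A.T z ≤ A.ball (j + 1) x from fun hle => h1 (hle (A.self_mem_T hz))), mul_zero,
    add_zero]
  by_cases h2 : z ∈ A.ball (j + 2) x
  · rw [if_pos ((hmem _ (by omega) x hx).2 h2)]
    obtain ⟨y, hyx, hy, hzy⟩ := A.ball_exists F (j + 1) (by omega) hx h2
    obtain ⟨v, hvy, hv, hzv⟩ := A.lball_exists F (j + 1) (by omega) hy hzy hz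
    rw [show ((A.classesIn (A.ball 1 x)).filter fun W => A.T z ≤ A.hop^[j + 1] W) = {A.T v} from ?_]
    · simp
    ext W
    rw [Finset.mem_filter, Finset.mem_singleton]
    constructor
    · rintro ⟨hW, hzW⟩
      obtain ⟨w, hw, hw0, rfl⟩ := A.mem_classesIn.1 hW
      obtain ⟨p, hpx, hp, hwp⟩ := A.ball_exists F 0 (by omega) hx hw
      have hpw := A.mem_E_of_mem_R H hw0 hp hwp
      have hzw : z ∈ A.ball (j + 1) w := hzW (A.self_mem_T hz)
      have hzp : z ∈ A.lball (j + 1) p := A.ball_le_lball H (j + 1) hw0 hp hpw hzw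
      have hpy := A.line_unique F (j + 1) (by omega) hx h1 hy hp hyx hpx hzy hzp
      have hRy : A.R p = A.R y := A.swap.E_eq_of_mem_T hy hpy hp
      have hwy : w ∈ A.R y := hRy ▸ hwp
      have hn : z ∉ A.lball j y := fun hh => h1 (A.lball_le_ball_succ H j hx hyx hh)
      exact A.T_eq hv (A.point_unique F j (by omega) hy hn hv hw0 (A.mem_E_of_mem_R H hv hy hvy)
        (A.mem_E_of_mem_R H hw0 hy hwy) hzv hzw) hw0
    · rintro rfl
      exact ⟨A.T_mem_classesIn (A.R_le_ball_one hx hyx hvy) hv, (hmem (j + 1) (by omega) v hv).2 hzv⟩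
  · rw [if_neg (show ¬ A.T z ≤ A.ball (j + 2) x from fun hle => h2 (hle (A.self_mem_T hz)))]
    simp only [Nat.cast_eq_zero, Finset.card_eq_zero, Finset.filter_eq_empty_iff]
    intro W hW hzW
    obtain ⟨w, hw, hw0, rfl⟩ := A.mem_classesIn.1 hW
    obtain ⟨p, hpx, hp, hwp⟩ := A.ball_exists F 0 (by omega) hx hw
    exact h2 (A.lball_le_ball_succ H (j + 1) hx hpx (A.ball_le_lball H (j + 1) hw0 hp
      (A.mem_E_of_mem_R H hw0 hp hwp) (hzW (A.self_mem_T hz))))

omit F in
open Classical in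
theorem odd_false {D : ℕ} (F : A.Full h (2 * D)) (hD : 2 ≤ D) (C : Submodule (ZMod 2) X)
    (hne : ∃ x ∈ C, x ≠ 0) (hC : ∀ x ∈ C, x ≠ 0 → A.ball D x = C) : False := by
  let ι := {U // U ∈ A.classesIn C}
  haveI : Nonempty ι := by
    obtain ⟨x, hx, hx0⟩ := hne
    exact ⟨⟨A.T x, A.T_mem_classesIn hx hx0⟩⟩
  have rep : ∀ U : ι, ∃ x ∈ C, x ≠ 0 ∧ A.T x = U.1 := fun U => A.mem_classesIn.1 U.2
  let M : ℕ → Matrix ι ι ℤ := fun i => Matrix.of fun U V => if V.1 ≤ A.hop^[i] U.1 then 1 else 0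
  have hMi : ∀ i U V, M i U V = if V.1 ≤ A.hop^[i] U.1 then 1 else 0 := fun _ _ _ => rfl
  have hsum : ∀ (P : Submodule (ZMod 2) X) (Φ : Submodule (ZMod 2) X → Prop), P ≤ C →
      (∀ x ∈ P, x ≠ 0 → A.T x ≤ P) →
      (∑ W : ι, if W.1 ≤ P ∧ Φ W.1 then (1 : ℤ) else 0) = ((A.classesIn P).filter Φ).card := by
    intro P Φ hP hPu
    rw [Finset.sum_boole]
    norm_cast
    refine Finset.card_nbij (fun W => W.1) ?_ (fun W _ W' _ e => Subtype.ext e) ?_
    · intro W hW
      simp only [Finset.coe_filter, Finset.mem_univ, true_and, Set.mem_setOf_eq] at hW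
      obtain ⟨w, hw, hw0, he⟩ := rep W
      simp only [Finset.coe_filter, Set.mem_setOf_eq]
      exact ⟨he ▸ A.T_mem_classesIn (hW.1 (he ▸ A.self_mem_T hw0)) hw0, hW.2⟩
    · intro W hW
      simp only [Finset.coe_filter, Set.mem_setOf_eq] at hW
      obtain ⟨w, hw, hw0, rfl⟩ := A.mem_classesIn.1 hW.1
      exact ⟨⟨A.T w, A.T_mem_classesIn (hP hw) hw0⟩, by simp [hPu w hw hw0, hW.2], rfl⟩
  have hle : ∀ i ≤ D, ∀ x ∈ C, x ≠ 0 → A.ball i x ≤ C := fun i hi x hx hx0 =>
    (A.ball_mono hi x).trans (hC x hx hx0).le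
  refine oddPolygon_false (2 ^ h) D
    (by have := Nat.one_lt_two_pow (n := h) (by have := F.two.pos; omega); omega) hD M ?_ ?_ ?_ ?_ ?_ ?_
  · ext U V
    obtain ⟨x, hx, hx0, he⟩ := rep U
    obtain ⟨z, hz, hz0, he'⟩ := rep V
    rw [hMi, Function.iterate_zero_apply, Matrix.one_apply]
    refine if_congr ⟨fun hle => Subtype.ext ?_, fun e => by rw [e]⟩ rfl rfl
    rw [← he, ← he'] at hle ⊢
    exact (A.T_eq hx0 (hle (A.self_mem_T hz0)) hz0).symm
  · ext U V
    rw [Matrix.transpose_apply, hMi, hMi]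
    obtain ⟨x, hx, hx0, he⟩ := rep U
    obtain ⟨z, hz, hz0, he'⟩ := rep V
    rw [← he, ← he']
    change (if A.T x ≤ A.ball 1 z then _ else _) = if A.T z ≤ A.ball 1 x then _ else _
    refine if_congr ⟨fun hle => ?_, fun hle => ?_⟩ rfl rfl
    · exact A.T_le_ball F 1 (by omega) hx0 (A.ball_one_symm F hz0 (hle (A.self_mem_T hx0)) hx0) hz0
    · exact A.T_le_ball F 1 (by omega) hz0 (A.ball_one_symm F hx0 (hle (A.self_mem_T hz0)) hz0) hx0
  · intro U V
    obtain ⟨x, hx, hx0, he⟩ := rep U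
    obtain ⟨z, hz, hz0, he'⟩ := rep V
    rw [hMi, if_pos]
    rw [← he, ← he']
    exact A.T_le_ball F D le_rfl hx0 ((hC x hx hx0).symm ▸ hz) hz0
  · intro i hi hiD
    ext U V
    obtain ⟨x, hx, hx0, he⟩ := rep U
    obtain ⟨z, hz, hz0, he'⟩ := rep V
    have hc := A.count_first F i hi (by omega) hx0 hz0
    rw [← hsum (A.ball 1 x) _ (hle 1 (by omega) x hx hx0)
      (fun a ha ha0 => A.T_le_ball F 1 (by omega) hx0 ha ha0)] at hc
    rw [sub_mul, one_mul, Matrix.sub_apply, Matrix.mul_apply]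
    simp only [Matrix.add_apply, Matrix.smul_apply, smul_eq_mul]
    rw [show (∑ W : ι, M 1 U W * M i W V) =
        ∑ W : ι, if W.1 ≤ A.ball 1 x ∧ A.T z ≤ A.hop^[i] W.1 then (1 : ℤ) else 0 from
      Finset.sum_congr rfl fun W _ => by
        rw [hMi, hMi, ← he, ← he']
        simp only [ball]
        by_cases a : W.1 ≤ A.hop^[1] (A.T x) <;> by_cases c : A.T z ≤ A.hop^[i] W.1 <;> simp [a, c], hc]
    simp only [hMi, ← he, ← he', ball]
    by_cases a : A.T z ≤ A.hop^[i + 1] (A.T x) <;> by_cases b : A.T z ≤ A.hop^[i] (A.T x) <;>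
      by_cases c : A.T z ≤ A.hop^[i - 1] (A.T x) <;>
        simp [a, b, c, -Function.iterate_succ] <;> ring
  · intro i hi U
    obtain ⟨x, hx, hx0, he⟩ := rep U
    have h1 := hsum _ (fun _ => True) (hle i hi x hx hx0)
      (fun a ha ha0 => A.T_le_ball F i (by omega) hx0 ha ha0)
    simp only [Finset.filter_true, A.card_classesIn_ball F i (show 2 * i ≤ 2 * D by omega) hx0] at h1
    push_cast at h1 ⊢
    refine Eq.trans (Finset.sum_congr rfl fun V _ => ?_) h1
    rw [hMi, ← he]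
    simp [ball]
  · intro i hi U
    rw [hMi, if_pos]
    exact A.iter_mono U.1 (Nat.zero_le i)

end AF

end Cfsg.Agent.TransLinTwo
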