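import Cfsg.Agent.Lib.Perm.TransLinTwo.Hex.LineMap
import Cfsg.Agent.Lib.Perm.TransLinTwo.Hex.Classes
import Cfsg.Agent.Lib.Perm.TransLinTwo.Hex.Tower
import Cfsg.Agent.Lib.Perm.TransLinTwo.Hex.Third
import Cfsg.Agent.Lib.Perm.TransLinTwo.PolarityCount

/-!
# The even case

Every third block over two non-orthogonal blocks gives a polarity of a generalised `2 k`-gon, with
`q ^ k + 1` absolute points, whereas the average over these blocks is `q + 1`.
-/

set_option autoImplicit false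
set_option linter.unusedSectionVars false
set_option linter.style.haveILetI false
set_option linter.unusedVariables false

namespace Cfsg.Agent.TransLinTwo

open Module

theorem natCard_sub_filter {α : Type*} (s : Finset α) (p : α → Prop) [DecidablePred p] :
    Nat.card {v : {v // v ∈ s} // p v.1} = (s.filter p).card := by
  rw [Nat.card_congr (Equiv.subtypeSubtypeEquivSubtypeInter (· ∈ s) p)]
  exact Nat.subtype_card (s.filter p) fun x => Finset.mem_filter

namespace AF

variable {G X Y : Type*} [Group G] [Finite G] [AddCommGroup X] [Module (ZMod 2) X] [Finite X]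
  [AddCommGroup Y] [Module (ZMod 2) Y] [Finite Y] (A : AF G X Y)

/-- Walks through first neighbours. -/
theorem incReach_of_ball {h n : ℕ} (F : A.Full h n) {C : Submodule (ZMod 2) X}
    (hC : ∀ x ∈ C, x ≠ 0 → ∀ i, A.ball i x ≤ C)
    {ι κ : Type*} (I : ι → κ → Prop) (cl : ∀ x : X, x ∈ C → x ≠ 0 → ι)
    (ln : ∀ y : Y, y ≠ 0 → A.R y ≤ C → κ)
    (hI : ∀ x hx hx0 y hy hy', x ∈ A.R y → I (cl x hx hx0) (ln y hy hy')) :
    ∀ i, 2 * i ≤ n → ∀ x (hx : x ∈ C) (hx0 : x ≠ 0) v, v ∈ C → v ≠ 0 → v ∈ A.ball i x →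
      ∀ y (hy : y ≠ 0) (hy' : A.R y ≤ C), y ∈ A.E v → IncReach I i (cl x hx hx0) (ln y hy hy') := by
  intro i
  induction i with
  | zero =>
    intro _ x hx hx0 v hv hv0 hvx y hy hy' hyv
    refine hI _ _ _ _ _ _ (A.T_le_R hv0 hy hyv ?_)
    rw [A.T_eq hx0 hvx hv0]
    exact A.self_mem_T hx0
  | succ i ih =>
    intro hi x hx hx0 v hv hv0 hvx y hy hy' hyv
    obtain ⟨w, hw, hw0, hvw⟩ := A.ball_step F i hi hx0 hvx hv0
    obtain ⟨p, hpx, hp, hwp⟩ := A.ball_exists F 0 (by omega) hx0 hw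
    have hpC : A.R p ≤ C := (A.R_le_ball_one hx0 hpx).trans (hC x hx hx0 1)
    exact ⟨ln p hp hpC, cl w (hpC hwp) hw0, hI _ _ _ _ _ _ (A.mem_R_self hx0 hp hpx),
      hI _ _ _ _ _ _ hwp, ih (by omega) w (hpC hwp) hw0 v hv hv0 hvw y hy hy' hyv⟩

variable {h n : ℕ} (F : A.Full h n) {k : ℕ} (hk : 2 ≤ k) (hn : n = 2 * k - 1)
  (hin : ∀ x : X, x ≠ 0 → ∀ i, A.ball i x ≤ A.S x)
  (hlast : ∀ (x : X) (y : Y), x ≠ 0 → y ≠ 0 → y ∈ A.E x → A.lball (k - 1) y = A.block x)
include F hk hn hin hlast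

theorem finrank_block {a : X} (ha : a ≠ 0) : finrank (ZMod 2) (A.block a) = 2 * k * h := by
  obtain ⟨y, hy, hya⟩ := A.exists_flag ha
  rw [← hlast a y ha hy hya, F.lball (k - 1) y (by omega) hy]
  congr 1
  omega

/-- The absolute points of the polarity of a third block. -/
theorem card_absolute {a b : X} (ha : a ≠ 0) (hb : b ≠ 0)
    (hd : Disjoint (A.block b) (A.blockZ a)) (φ : A.block a ≃ₗ[ZMod 2] A.block b)
    (hsym : ∀ x x' : A.block a, x ≠ 0 → x' ≠ 0 →
      ((x' : X) ∈ A.S (φ x : X) ↔ (x : X) ∈ A.S (φ x' : X)))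
    (hball : ∀ i (x u : A.block a), x ≠ 0 →
      ((u : X) ∈ A.ball i (x : X) ↔ (φ u : X) ∈ A.ball i (φ x : X))) :
    Nat.card {x : A.block a // x ≠ 0 ∧ A.ball (k - 2) (x : X) ≤ A.S (φ x : X)} =
      ((2 ^ h) ^ k + 1) * (2 ^ h - 1) := by
  classical
  haveI := Fintype.ofFinite X
  have H := F.two
  have hd' := A.disjoint_symm H hin ha hb hd
  have hblk : ∀ x ∈ (A.block a), x ≠ 0 → ∀ i, A.ball i x ≤ (A.block a) := fun x hx hx0 i =>
    (A.ball_le_block i x).trans (A.block_eq ha hx0 hx).le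
  have hφ0 : ∀ x : (A.block a), x ≠ 0 → (φ x : X) ≠ 0 := fun x hx e => hx (φ.map_eq_zero_iff.1 (Subtype.ext e))
  let ι := {U // U ∈ A.classesIn (A.block a)}
  let κ := {V // V ∈ A.swap.classesIn (A.dn (A.block a))}
  let I : ι → κ → Prop := fun U V => U.1 ≤ A.up V.1
  let cl : ∀ x : X, x ∈ (A.block a) → x ≠ 0 → ι := fun x hx hx0 => ⟨A.T x, A.T_mem_classesIn hx hx0⟩
  let ln : ∀ y : Y, y ≠ 0 → A.R y ≤ (A.block a) → κ := fun y hy hy' =>
    ⟨A.swap.T y, A.swap.T_mem_classesIn ((A.mem_dn_block hy).2 hy') hy⟩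
  have hI : ∀ x hx hx0 y hy hy', I (cl x hx hx0) (ln y hy hy') ↔ x ∈ A.R y := by
    intro x hx hx0 y hy hy'
    show A.T x ≤ A.up (A.swap.T y) ↔ _
    rw [A.up_T hy]
    exact ⟨fun hle => hle (A.self_mem_T hx0), fun hxy => A.classClosed_R y x hxy⟩
  have repU : ∀ U : ι, ∃ x : (A.block a), ∃ hx : x ≠ 0, cl (x : X) x.2 (fun e => hx (Subtype.ext e)) = U := by
    intro U
    obtain ⟨x, hx, hx0, he⟩ := A.mem_classesIn.1 U.2
    exact ⟨⟨x, hx⟩, fun e => hx0 (congrArg Subtype.val e), Subtype.ext he⟩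
  have repV : ∀ V : κ, ∃ y, ∃ (hy : y ≠ 0) (hy' : A.R y ≤ (A.block a)), ln y hy hy' = V := by
    intro V
    obtain ⟨y, hy', hy, he⟩ := A.swap.mem_classesIn.1 V.2
    exact ⟨y, hy, (A.mem_dn_block hy).1 hy', Subtype.ext he⟩
  -- the lines of the images
  have hline : ∀ x : {x : (A.block a) // x ≠ 0}, ∃ p, p ≠ 0 ∧ A.R p ≤ (A.block a) ∧
      A.lball (k - 2) p = (A.block a) ⊓ A.S (φ x.1 : X) ∧
      ∀ u ∈ (A.block a), u ≠ 0 → (u ∈ A.R p ↔ A.ball (k - 2) u ≤ A.S (φ x.1 : X)) :=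
    fun x => A.line_exists F hk hn hin hlast ha hb hd (φ x.1).2 (hφ0 x.1 x.2)
  choose p hp0 hpB hpl hpu using hline
  choose r hr0 hr using repU
  let δ : ι → κ := fun U => ln (p ⟨r U, hr0 U⟩) (hp0 _) (hpB _)
  have hSeq : ∀ x u : (A.block a), x ≠ 0 → u ≠ 0 → (u : X) ∈ A.T (x : X) →
      A.S (φ u : X) = A.S (φ x : X) := fun x u hx hu hux =>
    ((A.mem_T (hφ0 x hx)).1 ((hball 0 x u hx).1 hux)).resolve_left (hφ0 u hu)
  have hT : ∀ (U : ι) (x : A.block a) (hx : x ≠ 0), (x : X) ∈ U.1 → (x : X) ∈ A.T (r U : X) := by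
    intro U x _ h'
    rw [← hr U] at h'
    exact h'
  have key : ∀ (U : ι) (x : A.block a), x ≠ 0 → (x : X) ∈ U.1 → ∀ u (hu : u ∈ (A.block a)) (hu0 : u ≠ 0),
      (I (cl u hu hu0) (δ U) ↔ A.ball (k - 2) u ≤ A.S (φ x : X)) := by
    intro U x hx hxU u hu hu0
    refine (hI u hu hu0 _ (hp0 ⟨r U, hr0 U⟩) (hpB _)).trans ?_
    rw [hpu ⟨r U, hr0 U⟩ u hu hu0, hSeq (r U) x (hr0 U) hx (hT U x hx hxU)]
  have hval : ∀ U : ι, A.T (r U : X) = U.1 := fun U => congrArg Subtype.val (hr U)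
  have hrepmem : ∀ U : ι, (r U : X) ∈ U.1 := fun U =>
    (hval U).le (A.self_mem_T fun e => hr0 U (Subtype.ext e))
  have hIr : ∀ U U' : ι, I U (δ U') ↔ A.ball (k - 2) (r U : X) ≤ A.S (φ (r U') : X) := fun U U' => by
    have h1 := key U' (r U') (hr0 U') (hrepmem U') (r U : X) (r U).2 fun e => hr0 U (Subtype.ext e)
    rwa [hr U] at h1
  have hsym' : ∀ U U' : ι, I U (δ U') → I U' (δ U) := by
    intro U U' hUU'
    rw [hIr] at hUU' ⊢
    intro u hu
    rcases eq_or_ne u 0 with rfl | hu0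
    · exact zero_mem _
    have hrU : (r U : X) ≠ 0 := fun e => hr0 U (Subtype.ext e)
    have hrU' : (r U' : X) ≠ 0 := fun e => hr0 U' (Subtype.ext e)
    have huB : u ∈ (A.block a) := hblk _ (r U').2 hrU' _ hu
    have hu' : (⟨u, huB⟩ : (A.block a)) ≠ 0 := fun e => hu0 (congrArg Subtype.val e)
    exact (hsym (r U) ⟨u, huB⟩ (hr0 U) hu').2 (A.S_symm hrU (A.ball_le_S_symm F (k - 2) (by omega) hrU
        (hφ0 _ (hr0 U')) hUU' ((hball (k - 2) (r U') ⟨u, huB⟩ (hr0 U')).1 hu)))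
  -- sizes
  have hcard : Fintype.card ι = ∑ j ∈ Finset.range (2 * k), (2 ^ h) ^ j := by
    rw [Fintype.card_coe]
    exact A.card_classesIn H (fun x hx _ => A.T_le_block hx) (A.finrank_block F hk hn hin hlast ha)
  have hcard' : Fintype.card κ = Fintype.card ι := by
    rw [hcard, Fintype.card_coe]
    refine A.swap.card_classesIn (A.swap_twoStep H) (fun y hy hy0 p hp => ?_)
      ((A.finrank_dn_block H ha).trans (A.finrank_block F hk hn hin hlast ha))
    rcases eq_or_ne p 0 with rfl | hp0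
    · exact zero_mem _
    refine (A.mem_dn_block hp0).2 ?_
    rw [show A.R p = A.R y from A.swap.E_eq_of_mem_T hy0 hp hp0]
    exact (A.mem_dn_block hy0).1 hy
  have hinj : Function.Injective δ := by
    intro U U' e
    have e1 : A.swap.T (p ⟨r U, hr0 U⟩) = A.swap.T (p ⟨r U', hr0 U'⟩) := congrArg Subtype.val e
    have e2 := congrArg A.up e1
    rw [A.up_T (hp0 _), A.up_T (hp0 _)] at e2
    have e3 : (A.block a) ⊓ A.S (φ (r U) : X) = (A.block a) ⊓ A.S (φ (r U') : X) :=
      (hpl ⟨r U, hr0 U⟩).symm.trans ((congrArg (A.hop^[k - 2]) e2).trans (hpl ⟨r U', hr0 U'⟩))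
    have split : ∀ x : (A.block a), x ≠ 0 → A.S (φ x : X) = A.blockZ b ⊔ (A.block a) ⊓ A.S (φ x : X) := fun x hx => by
      rw [← sup_inf_assoc_of_le (A.block a) (show A.blockZ b ≤ A.S (φ x : X) from
        fun z hz => A.mem_blockZ.1 hz _ (φ x).2 (hφ0 x hx)), sup_comm,
        A.block_sup_blockZ H hin hb ha hd', top_inf_eq]
    have e4 : A.S (φ (r U') : X) = A.S (φ (r U) : X) := by
      rw [split _ (hr0 U'), split _ (hr0 U), e3]
    have e5 := (hball 0 (r U) (r U') (hr0 U)).2 ((A.mem_T (hφ0 _ (hr0 U))).2 (Or.inr e4))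
    apply Subtype.ext
    rw [← hval U, ← hval U']
    exact (A.T_eq (fun e => hr0 U (Subtype.ext e)) e5 (fun e => hr0 U' (Subtype.ext e))).symm
  let e : ι ≃ κ := Equiv.ofBijective δ
    ((Fintype.bijective_iff_injective_and_card δ).2 ⟨hinj, hcard'.symm⟩)
  have hq : 2 ≤ 2 ^ h := Nat.le_self_pow (by have := H.pos; omega) 2
  have habs : Nat.card {U : ι // I U (δ U)} = (2 ^ h) ^ k + 1 := by
    refine polarity_absolute I (2 ^ h) k hq hk ?_ ?_ hcard ?_ e fun U U' => ⟨hsym' U U', hsym' U' U⟩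
    · intro U
      rw [← hr U]
      refine (natCard_sub_filter (A.swap.classesIn (A.dn (A.block a))) fun V => A.T (r U : X) ≤ A.up V).trans ?_
      have hrU : (r U : X) ≠ 0 := fun e => hr0 U (Subtype.ext e)
      rw [show ((A.swap.classesIn (A.dn (A.block a))).filter fun V => A.T (r U : X) ≤ A.up V) =
          A.swap.classesIn (A.E (r U : X)) from ?_,
        A.swap.card_classesIn (A.swap_twoStep H) (P := A.E (r U : X)) (m := 2)
          (fun y hy _ => A.swap.classClosed_R (r U : X) y hy) (H.rankE _ hrU)]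
      · simp [Finset.sum_range_succ, add_comm]
      ext V
      rw [Finset.mem_filter]
      constructor
      · rintro ⟨hV, hle⟩
        obtain ⟨y, -, hy, rfl⟩ := A.swap.mem_classesIn.1 hV
        rw [A.up_T hy] at hle
        exact A.swap.T_mem_classesIn (A.mem_E_of_mem_R H hrU hy (hle (A.self_mem_T hrU))) hy
      · intro hV
        obtain ⟨y, hy', hy, rfl⟩ := A.swap.mem_classesIn.1 hV
        refine ⟨A.swap.T_mem_classesIn (A.E_le_dn (r U).2 hy') hy, ?_⟩
        rw [A.up_T hy]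
        exact A.T_le_R hrU hy hy'
    · intro V
      obtain ⟨y, hy, hy', rfl⟩ := repV V
      refine (natCard_sub_filter (A.classesIn (A.block a)) fun U => U ≤ A.up (A.swap.T y)).trans ?_
      rw [A.up_T hy, ← A.card_classesIn_R F hy]
      congr 1
      ext U
      rw [Finset.mem_filter]
      constructor
      · rintro ⟨hU, hle⟩
        obtain ⟨x, -, hx, rfl⟩ := A.mem_classesIn.1 hU
        exact A.T_mem_classesIn (hle (A.self_mem_T hx)) hx
      · intro hU
        obtain ⟨x, hx', hx, rfl⟩ := A.mem_classesIn.1 hU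
        exact ⟨A.T_mem_classesIn (hy' hx') hx, A.classClosed_R y x hx'⟩
    · intro U V
      obtain ⟨y, hy, hy', rfl⟩ := repV V
      rw [← hr U]
      obtain ⟨u, hu⟩ := A.swap.exists_I hy
      have hu0 : u ≠ 0 := hu.2.1
      have hyu : y ∈ A.E u := (A.mem_E_iff hu0).2 (Or.inr (A.swap_I.1 hu))
      have hrU : (r U : X) ≠ 0 := fun e => hr0 U (Subtype.ext e)
      have hx : (r U : X) ∈ A.lball (k - 1) y := by
        rw [hlast u y hu0 hy hyu, A.block_eq ha hu0 (hy' (A.mem_R_self hu0 hy hyu))]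
        exact (r U).2
      obtain ⟨v, hvy, hv0, hxv⟩ := A.lball_exists F (k - 1) (by omega) hy hx hrU
      exact A.incReach_of_ball F hblk I cl ln
        (fun x hx hx0 y hy hy' hxy => (hI x hx hx0 y hy hy').2 hxy) (k - 1) (by omega) _ (r U).2 hrU v
        (hy' hvy) hv0 (A.ball_symm F (k - 1) (by omega) hv0 hxv hrU) y hy hy'
        (A.mem_E_of_mem_R H hv0 hy hvy)
  -- from classes to vectors
  rw [← habs, Nat.card_eq_fintype_card, Nat.card_eq_fintype_card, Fintype.card_subtype,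
    Fintype.card_subtype]
  let f : (A.block a) → ι := fun x => if hx : x ≠ 0 then cl x x.2 (fun e => hx (Subtype.ext e)) else
    cl a (A.self_mem_block ha) ha
  have hf : ∀ x : (A.block a), x ≠ 0 → ∀ U : ι, f x = U ↔ (x : X) ∈ U.1 := by
    intro x hx U
    have hxX : (x : X) ≠ 0 := fun e => hx (Subtype.ext e)
    simp only [f, dif_pos hx]
    refine ⟨fun e => e ▸ A.self_mem_T hxX, fun hxU => Subtype.ext ?_⟩
    obtain ⟨z, -, hz, he⟩ := A.mem_classesIn.1 U.2
    show A.T (x : X) = U.1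
    rw [← he] at hxU ⊢
    exact A.T_eq hz hxU hxX
  have habsx : ∀ x : (A.block a), x ≠ 0 → (I (f x) (δ (f x)) ↔ A.ball (k - 2) (x : X) ≤ A.S (φ x : X)) := by
    intro x hx
    have := key (f x) x hx ((hf x hx _).1 rfl) (x : X) x.2 fun e => hx (Subtype.ext e)
    rwa [show cl (x : X) x.2 (fun e => hx (Subtype.ext e)) = f x by simp only [f, dif_pos hx]] at this
  rw [Finset.card_eq_sum_card_fiberwise (f := f)
      (t := Finset.univ.filter fun U => I U (δ U)) fun x hx => by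
    simp only [Finset.coe_filter, Finset.mem_univ, true_and, Set.mem_setOf_eq] at hx ⊢
    exact (habsx x hx.1).2 hx.2]
  rw [Finset.sum_const_nat (m := 2 ^ h - 1)]
  intro U hU
  simp only [Finset.mem_filter, Finset.mem_univ, true_and] at hU
  obtain ⟨z, hz, hz0, hzU⟩ := A.mem_classesIn.1 U.2
  rw [← H.rankT z hz0, ← card_filter_mem (A.T z),
    ← Finset.card_erase_of_mem (s := Finset.univ.filter fun u => u ∈ A.T z) (a := 0) (by simp)]
  refine Finset.card_nbij (fun x : (A.block a) => (x : X)) ?_ (fun x _ x' _ e => Subtype.ext e) ?_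
  · intro x hx
    simp only [Finset.coe_filter, Finset.mem_filter, Finset.mem_univ, true_and,
      Set.mem_setOf_eq] at hx
    simp only [Finset.coe_erase, Finset.coe_filter, Finset.mem_univ, true_and, Set.mem_diff,
      Set.mem_setOf_eq, Set.mem_singleton_iff]
    exact ⟨hzU ▸ (hf x hx.1.1 U).1 hx.2, fun e => hx.1.1 (Subtype.ext e)⟩
  · intro u hu
    simp only [Finset.coe_erase, Finset.coe_filter, Finset.mem_univ, true_and, Set.mem_diff,
      Set.mem_setOf_eq, Set.mem_singleton_iff] at hu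
    have huB : u ∈ (A.block a) := A.T_le_block hz hu.1
    have hu' : (⟨u, huB⟩ : (A.block a)) ≠ 0 := fun e => hu.2 (congrArg Subtype.val e)
    have hfu : f ⟨u, huB⟩ = U := (hf _ hu' U).2 (hzU ▸ hu.1)
    refine ⟨⟨u, huB⟩, ?_, rfl⟩
    simp only [Finset.coe_filter, Finset.mem_filter, Finset.mem_univ, true_and, Set.mem_setOf_eq]
    exact ⟨⟨hu', (habsx _ hu').1 (hfu.symm ▸ hU)⟩, hfu⟩

/-- The even case does not occur. -/
theorem even_false : False := by
  classical
  haveI := Fintype.ofFinite X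
  have H := F.two
  obtain ⟨a, -, ha, -, -⟩ := A.big
  obtain ⟨b, hb, hd⟩ := A.exists_nonperp H hin ha
  have hd' := A.disjoint_symm H hin ha hb hd
  have hthird : ∀ v : {v : A.block b // v ≠ 0}, ∃ φ : A.block a ≃ₗ[ZMod 2] A.block b,
      (∀ x : A.block a, x ≠ 0 → (x : X) + (φ x : X) ∈ A.block (a + (v.1 : X))) ∧
      (∀ x x' : A.block a, x ≠ 0 → x' ≠ 0 →
        ((x' : X) ∈ A.S (φ x : X) ↔ (x : X) ∈ A.S (φ x' : X))) ∧
      (∀ i (x u : A.block a), x ≠ 0 →
        ((u : X) ∈ A.ball i (x : X) ↔ (φ u : X) ∈ A.ball i (φ x : X))) := by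
    intro v
    obtain ⟨φ, h1, -, h2, h3⟩ := A.third F hin ha hb hd (A.self_mem_block ha) ha v.1.2
      fun e => v.2 (Subtype.ext e)
    exact ⟨φ, h1, h2, h3⟩
  choose φ hφC hφsym hφball using hthird
  have hinj : ∀ x : A.block a, x ≠ 0 → Function.Injective
      (fun v : {v : A.block b // v ≠ 0} => φ v x) := by
    intro x hx v v' e
    have hne : ∀ w : {v : A.block b // v ≠ 0}, a + (w.1 : X) ≠ 0 := fun w e' =>
      ha (Submodule.disjoint_def.1 hd' a (A.self_mem_block ha) (A.block_le_blockZ hin hb (by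
        rw [eq_neg_of_add_eq_zero_left e']
        exact neg_mem w.1.2)))
    have hs : (x : X) + (φ v x : X) ≠ 0 := fun e' => hx (Subtype.ext (Submodule.disjoint_def.1 hd' _
      x.2 (A.block_le_blockZ hin hb (by
        rw [eq_neg_of_add_eq_zero_left e']
        exact neg_mem (φ v x).2))))
    have h1 := A.block_eq (hne v) hs (hφC v x hx)
    have h2 := A.block_eq (hne v') hs (by
      have := hφC v' x hx
      rwa [← show φ v x = φ v' x from e] at this)
    by_contra hvv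
    have hm : (v.1 : X) - v'.1 ∈ A.block (a + (v.1 : X)) := by
      rw [show (v.1 : X) - v'.1 = (a + v.1) - (a + v'.1) by abel]
      refine sub_mem (A.self_mem_block (hne v)) ?_
      rw [← h1, h2]
      exact A.self_mem_block (hne v')
    have hd0 : (v.1 : X) - v'.1 ≠ 0 := fun e' => hvv (Subtype.ext (Subtype.ext (sub_eq_zero.1 e')))
    have h3 := (A.block_eq (hne v) hd0 hm).symm.trans (A.block_eq hb hd0 (sub_mem v.1.2 v'.1.2))
    have hab : a ∈ A.block b := by
      have h4 : a + (v.1 : X) ∈ A.block b := h3.le (A.self_mem_block (hne v))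
      exact (Submodule.add_mem_iff_left _ v.1.2).1 h4
    exact ha (Submodule.disjoint_def.1 hd' a (A.self_mem_block ha) (A.block_le_blockZ hin hb hab))
  have hg : ∀ c : X, c ≠ 0 → Fintype.card {x : A.block c // x ≠ 0} = 2 ^ (2 * k * h) - 1 := by
    intro c hc
    rw [Fintype.card_subtype_compl, Fintype.card_subtype_eq, ← Nat.card_eq_fintype_card,
      Module.natCard_eq_pow_finrank (K := ZMod 2), Nat.card_zmod, A.finrank_block F hk hn hin hlast hc]
  -- count by the blocks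
  have hrow : ∀ v : {v : A.block b // v ≠ 0}, (Finset.univ.filter fun x : {x : A.block a // x ≠ 0} =>
      A.ball (k - 2) (x.1 : X) ≤ A.S (φ v x.1 : X)).card = ((2 ^ h) ^ k + 1) * (2 ^ h - 1) := by
    intro v
    rw [← A.card_absolute F hk hn hin hlast ha hb hd (φ v) (hφsym v) (hφball v),
      ← Fintype.card_subtype, ← Nat.card_eq_fintype_card]
    exact Nat.card_congr (Equiv.subtypeSubtypeEquivSubtypeInter (fun x : A.block a => x ≠ 0)
      fun x => A.ball (k - 2) (x : X) ≤ A.S (φ v x : X))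
  -- count by the points
  have hcol : ∀ x : {x : A.block a // x ≠ 0}, (Finset.univ.filter fun v : {v : A.block b // v ≠ 0} =>
      A.ball (k - 2) (x.1 : X) ≤ A.S (φ v x.1 : X)).card = 2 ^ (2 * h) - 1 := by
    intro x
    have hx : (x.1 : X) ≠ 0 := fun e => x.2 (Subtype.ext e)
    obtain ⟨p, hp, hpB, -, hiff⟩ := A.line_exists F hk hn hin hlast hb ha hd' x.1.2 hx
    have hzero : ∀ v : {v : A.block b // v ≠ 0}, (φ v x.1 : X) ≠ 0 := fun v e =>
      x.2 ((φ v).map_eq_zero_iff.1 (Subtype.ext e))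
    have hcrit : ∀ v : {v : A.block b // v ≠ 0},
        (φ v x.1 : X) ∈ A.R p ↔ A.ball (k - 2) (x.1 : X) ≤ A.S (φ v x.1 : X) := fun v =>
      (hiff _ (φ v x.1).2 (hzero v)).trans
        ⟨A.ball_le_S_symm F (k - 2) (by omega) (hzero v) hx,
          A.ball_le_S_symm F (k - 2) (by omega) hx (hzero v)⟩
    rw [← A.finrank_R H hp, ← card_filter_mem (A.R p),
      ← Finset.card_erase_of_mem (s := Finset.univ.filter fun u => u ∈ A.R p) (a := 0) (by simp)]
    refine Finset.card_nbij (fun v => (φ v x.1 : X)) ?_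
      (fun v _ v' _ e => hinj x.1 x.2 (Subtype.ext e)) ?_
    · intro v hv
      simp only [Finset.coe_filter, Finset.mem_univ, true_and, Set.mem_setOf_eq] at hv
      simp only [Finset.coe_erase, Finset.coe_filter, Finset.mem_univ, true_and, Set.mem_diff,
        Set.mem_setOf_eq, Set.mem_singleton_iff]
      exact ⟨(hcrit v).2 hv, hzero v⟩
    · intro u hu
      simp only [Finset.coe_erase, Finset.coe_filter, Finset.mem_univ, true_and, Set.mem_diff,
        Set.mem_setOf_eq, Set.mem_singleton_iff] at hu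
      let g : {v : A.block b // v ≠ 0} → {v : A.block b // v ≠ 0} := fun v =>
        ⟨φ v x.1, fun e => x.2 ((φ v).map_eq_zero_iff.1 e)⟩
      have hg' : Function.Injective g := fun v v' e => hinj x.1 x.2 (congrArg Subtype.val e)
      obtain ⟨v, hv⟩ := (Finite.injective_iff_surjective.1 hg')
        ⟨⟨u, hpB hu.1⟩, fun e => hu.2 (congrArg Subtype.val e)⟩
      have hvu : (φ v x.1 : X) = u := congrArg (fun w => ((w.1 : A.block b) : X)) hv
      refine ⟨v, ?_, hvu⟩
      simp only [Finset.coe_filter, Finset.mem_univ, true_and, Set.mem_setOf_eq]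
      exact (hcrit v).1 (hvu.symm ▸ hu.1)
  have hsum : ∑ v : {v : A.block b // v ≠ 0}, (Finset.univ.filter fun x : {x : A.block a // x ≠ 0} =>
      A.ball (k - 2) (x.1 : X) ≤ A.S (φ v x.1 : X)).card =
      ∑ x : {x : A.block a // x ≠ 0}, (Finset.univ.filter fun v : {v : A.block b // v ≠ 0} =>
        A.ball (k - 2) (x.1 : X) ≤ A.S (φ v x.1 : X)).card := by
    simp only [Finset.card_filter]
    exact Finset.sum_comm
  simp only [hrow, hcol, Finset.sum_const, Finset.card_univ, hg a ha, hg b hb, smul_eq_mul] at hsum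
  have hpos := H.pos
  obtain ⟨q, hq, e⟩ : ∃ q, 2 ≤ q ∧ 2 ^ h = q := ⟨_, Nat.le_self_pow (by omega) 2, rfl⟩
  have hne : 0 < 2 ^ (2 * k * h) - 1 := by
    have := Nat.one_lt_two_pow (show 2 * k * h ≠ 0 from Nat.mul_ne_zero (by omega) (by omega))
    omega
  have h1 := Nat.eq_of_mul_eq_mul_left hne hsum
  rw [mul_comm 2 h, pow_mul, e, show q ^ 2 - 1 = (q + 1) * (q - 1) by
    rw [sq, ← Nat.mul_self_sub_mul_self_eq, one_mul]] at h1
  have h2 := Nat.eq_of_mul_eq_mul_right (by omega) h1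
  have h3 := Nat.pow_le_pow_right (show 0 < q by omega) hk
  nlinarith

end AF

end Cfsg.Agent.TransLinTwo
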